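import Cfsg.Agent.H4.CentIndexFour.Transvection
import Cfsg.Agent.Fusion.Alperin

/-!
# Centre of index four: the action of `N(R)` on an abelian maximal subgroup `R` of `P`

Either every element of `N(R)` fixes the derived involution `c`, and then it acts on `R` as an
element of `N(P)`, or the conjugates of `c` are `c, t, c t` for an involution `t ∈ R` outside the
centre, and the centre is `{1, c}` times the largest `N(R)`-invariant part `W` of it, on which
`N(R)` acts as `N(P)` does.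
-/

set_option autoImplicit false
set_option linter.unusedSectionVars false
set_option linter.style.haveILetI false

namespace Cfsg.Agent.H4.CentIndexFour

open Subgroup

variable {G : Type*} [Group G]

/-- `P` has centre of index four and derived involution `c`. -/
structure Setup (P : Subgroup G) (c : G) : Prop where
  idx : Idx4 P
  mem : c ∈ ZP P
  ne : c ≠ 1
  sq : c * c = 1
  val : ∀ x ∈ P, ∀ y ∈ P, x * y * x⁻¹ = y ∨ x * y * x⁻¹ = c * y
  moves : ∀ x ∈ P, ∀ y ∈ P, x ∉ ZP P → y ∉ cs P x → x * y * x⁻¹ = c * y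

theorem Idx4.exists_setup {P : Subgroup G} (h : Idx4 P) : ∃ c, Setup P c := by
  obtain ⟨c, hm, h1, h2, h3⟩ := h.exists_com
  exact ⟨c, h, hm, h1, h2, fun x hx y hy => (h3 x hx y hy).1, fun x hx y hy => (h3 x hx y hy).2⟩

/-- `c` is moved by some element of `N(R)`. -/
def Fused (c : G) (R : Subgroup G) : Prop := ∃ k ∈ normalizer (R : Set G), k * c * k⁻¹ ≠ c

section Sub

variable {P : Subgroup G} {c : G} (S : Setup P c)
include S

theorem Setup.conj_mem_cs {x p g : G} (hx : x ∈ P) (hp : p ∈ P) (hg : g ∈ cs P x) :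
    p * g * p⁻¹ ∈ cs P x := by
  rcases S.val p hp g (cs_le P x hg) with e | e <;> rw [e]
  · exact hg
  · exact mul_mem (S.idx.ZP_le_cs hx S.mem) hg

theorem Setup.le_normalizer_cs {x : G} (hx : x ∈ P) : P ≤ normalizer (cs P x : Set G) := by
  intro p hp
  refine mem_normalizer_iff.2 fun g => ⟨fun hg => S.conj_mem_cs hx hp hg, fun hg => ?_⟩
  have := S.conj_mem_cs hx (inv_mem hp) hg
  rwa [show p⁻¹ * (p * g * p⁻¹) * p⁻¹⁻¹ = g by group] at this

theorem Setup.inv_mul_mem_cs {x y p : G} (hx : x ∈ P) (hxZ : x ∉ ZP P) (hy : y ∈ P)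
    (hyR : y ∉ cs P x) (hp : p ∈ P) (hpR : p ∉ cs P x) : y⁻¹ * p ∈ cs P x := by
  have hyZ : y ∉ ZP P := fun e => hyR (S.idx.ZP_le_cs hx e)
  have hxy : x⁻¹ * y ∉ ZP P := fun e => hyR ((S.idx.mem_cs_iff hx hxZ).2 (Or.inr e))
  rcases S.idx.cover hx hy hxZ hyZ hxy hp with e | e | e | e
  · exact absurd (S.idx.ZP_le_cs hx e) hpR
  · exact absurd ((S.idx.mem_cs_iff hx hxZ).2 (Or.inr e)) hpR
  · exact S.idx.ZP_le_cs hx e
  · have h1 : y⁻¹ * x * y ∈ cs P x := by
      have := S.conj_mem_cs hx (inv_mem hy) (mem_cs.2 ⟨hx, Commute.refl x⟩ : x ∈ cs P x)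
      rwa [inv_inv] at this
    have h2 := mul_mem h1 (S.idx.ZP_le_cs hx e)
    rwa [show y⁻¹ * x * y * ((x * y)⁻¹ * p) = y⁻¹ * p by group] at h2

theorem Setup.moves_of_not {x y r : G} (hx : x ∈ P) (hxZ : x ∉ ZP P) (hy : y ∈ P)
    (hyR : y ∉ cs P x) (hr : r ∈ cs P x) (hrZ : r ∉ ZP P) : y * r * y⁻¹ = c * r := by
  refine S.moves y hy r (cs_le P x hr) (fun e => hyR (S.idx.ZP_le_cs hx e)) fun hry => hyR ?_
  rw [← S.idx.cs_eq hx hxZ hr hrZ]
  exact mem_cs.2 ⟨hy, (mem_cs.1 hry).2.symm⟩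

theorem Setup.fix_ZP {z p : G} (hz : z ∈ ZP P) (hp : p ∈ P) : p * z * p⁻¹ = z := by
  rw [← (commute_ZP hz hp).eq, mul_inv_cancel_right]

theorem Setup.isTrans {x y : G} (hx : x ∈ P) (hxZ : x ∉ ZP P) (hy : y ∈ P) (hyR : y ∉ cs P x) :
    IsTrans (cs P x) y c where
  mem := S.le_normalizer_cs hx hy
  centre := S.idx.ZP_le_cs hx S.mem
  sq := S.sq
  ne := S.ne
  fix := S.fix_ZP S.mem hy
  val r hr := S.val y hy r (cs_le P x hr)
  moves := ⟨x, mem_cs.2 ⟨hx, Commute.refl x⟩,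
    S.moves_of_not hx hxZ hy hyR (mem_cs.2 ⟨hx, Commute.refl x⟩) hxZ⟩

end Sub

/-- An element of `N(P)` normalises the centre. -/
theorem conj_mem_ZP {P : Subgroup G} {n z : G} (hn : n ∈ normalizer (P : Set G)) (hz : z ∈ ZP P) :
    n * z * n⁻¹ ∈ ZP P := by
  obtain ⟨hzP, hz'⟩ := mem_ZP.1 hz
  refine mem_ZP.2 ⟨conj_mem_of_normalizer hn hzP, fun p hp => ?_⟩
  have h1 : Commute (n⁻¹ * p * n) z := hz' _ (by simpa using conj_mem_of_normalizer (inv_mem hn) hp)
  have h2 : n * ((n⁻¹ * p * n) * z) * n⁻¹ = n * (z * (n⁻¹ * p * n)) * n⁻¹ := by rw [h1.eq]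
  group at h2
  show p * (n * z * n⁻¹) = n * z * n⁻¹ * p
  group
  exact h2

section Aut

variable [Finite G] {P : Sylow 2 G} {c : G} (S : Setup (P : Subgroup G) c) {x y : G}
  (hx : x ∈ (P : Subgroup G)) (hxZ : x ∉ ZP (P : Subgroup G))
  (hy : y ∈ (P : Subgroup G)) (hyR : y ∉ cs (P : Subgroup G) x)
include S hx hxZ hy hyR

theorem Setup.card_le (Y : Subgroup ↥(normalizerMonoidHom (cs (P : Subgroup G) x)).range)
    (hY : IsPGroup 2 ↥Y) : Nat.card ↥Y ≤ 2 :=
  card_two_sub_automizer S.idx hx hxZ (S.le_normalizer_cs hx) hy hyR Y hY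

theorem Setup.same_or {k : G} (hk : k ∈ normalizer (cs (P : Subgroup G) x : Set G))
    (h : y * (k⁻¹ * c * k) * y⁻¹ = k⁻¹ * c * k ∨ y * (k * c * k⁻¹) * y⁻¹ = k * c * k⁻¹) :
    SameAct (cs (P : Subgroup G) x) y (k⁻¹ * y * k) := by
  classical
  set R := cs (P : Subgroup G) x with hR
  set ρ := (normalizerMonoidHom R).rangeRestrict with hρ
  have hone : ∀ {g : G} (hg : g ∈ normalizer (R : Set G)),
      ρ ⟨g, hg⟩ = 1 ↔ ∀ r ∈ R, g * r * g⁻¹ = r := by
    intro g hg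
    constructor
    · intro e r hr
      exact congrArg Subtype.val (DFunLike.congr_fun (congrArg Subtype.val e) ⟨r, hr⟩ :)
    · exact fun e => Subtype.ext (MulEquiv.ext fun r => Subtype.ext (e r r.2))
  have hab : IsMulCommutative ↥R :=
    ⟨⟨fun a b => Subtype.ext (S.idx.commute_cs hx hxZ a.2 b.2).eq⟩⟩
  have hsyl : ∀ g ∈ normalizer (R : Set G), (∀ r ∈ R, g ^ 4 * r * (g ^ 4)⁻¹ = r) →
      ∀ r ∈ R, g ^ 2 * r * (g ^ 2)⁻¹ = r := by
    intro g hg h4
    have e4 : (ρ ⟨g, hg⟩) ^ 4 = 1 := by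
      rw [← map_pow, ← (hone (pow_mem hg 4)).2 h4]; rfl
    have hcard := S.card_le hx hxZ hy hyR (zpowers (ρ ⟨g, hg⟩)) (IsPGroup.iff_card.2 (by
      obtain ⟨i, -, hi⟩ := (Nat.dvd_prime_pow Nat.prime_two).1
        ((orderOf_dvd_of_pow_eq_one e4).trans (by norm_num : 4 ∣ 2 ^ 2))
      exact ⟨i, (Nat.card_zpowers _).trans hi⟩))
    rw [Nat.card_zpowers] at hcard
    have hd : orderOf (ρ ⟨g, hg⟩) ∣ 2 := by
      have := orderOf_pos (ρ ⟨g, hg⟩)
      interval_cases (orderOf (ρ ⟨g, hg⟩)) <;> norm_num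
    have e2 := orderOf_dvd_iff_pow_eq_one.1 hd
    rw [← map_pow] at e2
    exact (hone (pow_mem hg 2)).1 (by rw [← e2]; rfl)
  have hcomm : ∀ p q : G, p ∈ normalizer (R : Set G) → q ∈ normalizer (R : Set G) →
      (∀ r ∈ R, p * (p * r * p⁻¹) * p⁻¹ = r) → (∀ r ∈ R, q * (q * r * q⁻¹) * q⁻¹ = r) →
      SameAct R (p * q) (q * p) → (∃ r ∈ R, p * r * p⁻¹ ≠ r) → (∃ r ∈ R, q * r * q⁻¹ ≠ r) →
      SameAct R p q := by
    intro p q hp hq hpp hqq hpq hp1 hq1
    have h2 : ∀ {g : G} (hg : g ∈ normalizer (R : Set G)),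
        (∀ r ∈ R, g * (g * r * g⁻¹) * g⁻¹ = r) → ρ ⟨g, hg⟩ * ρ ⟨g, hg⟩ = 1 := by
      intro g hg e
      rw [← map_mul]
      exact (hone (mul_mem hg hg)).2 fun r hr => by
        rw [show g * g * r * (g * g)⁻¹ = g * (g * r * g⁻¹) * g⁻¹ by group, e r hr]
    have hne : ∀ {g : G} (hg : g ∈ normalizer (R : Set G)), (∃ r ∈ R, g * r * g⁻¹ ≠ r) →
        ρ ⟨g, hg⟩ ≠ 1 := by
      rintro g hg ⟨r, hr, e⟩ h1
      exact e ((hone hg).1 h1 r hr)
    set A := ρ ⟨p, hp⟩ with hA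
    set B := ρ ⟨q, hq⟩ with hB
    have hAA : A * A = 1 := h2 hp hpp
    have hBB : B * B = 1 := h2 hq hqq
    have hAB : A * B = B * A := by
      rw [hA, hB, ← map_mul, ← map_mul]
      exact Subtype.ext (MulEquiv.ext fun r => Subtype.ext (hpq r r.2))
    by_contra hne2
    have hAB' : A ≠ B := fun e => hne2 fun r hr => by
      rw [hA, hB] at e
      exact congrArg Subtype.val (DFunLike.congr_fun (congrArg Subtype.val e) ⟨r, hr⟩ :)
    haveI hcomm' : IsMulCommutative ↥(closure {A, B}) :=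
      Subgroup.isMulCommutative_closure (by
        rintro a (rfl | rfl) b (rfl | rfl) <;> first | rfl | exact hAB | exact hAB.symm)
    have hp2 : IsPGroup 2 ↥(closure {A, B}) := by
      intro g
      refine ⟨1, Subtype.ext ?_⟩
      suffices ∀ u : ↥(normalizerMonoidHom R).range, u ∈ closure {A, B} → u * u = 1 by
        simpa [pow_two] using this _ g.2
      intro u hu
      induction hu using closure_induction with
      | mem z hz => rcases hz with rfl | rfl <;> assumption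
      | one => exact one_mul 1
      | mul z w hz hw e1 e2 =>
        have : z * w = w * z := congrArg Subtype.val (hcomm'.1.comm ⟨z, hz⟩ ⟨w, hw⟩)
        calc z * w * (z * w) = z * (w * z) * w := by group
          _ = z * z * (w * w) := by rw [← this]; group
          _ = 1 := by rw [e1, e2, one_mul]
      | inv z _ e1 => rw [← mul_inv_rev, e1, inv_one]
    have hcard := S.card_le hx hxZ hy hyR _ hp2
    have h3 : ({1, A, B} : Finset ↥(normalizerMonoidHom R).range).card = 3 := by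
      rw [Finset.card_insert_of_notMem (by
          simp only [Finset.mem_insert, Finset.mem_singleton]
          rintro (e | e)
          · exact hne hp hp1 e.symm
          · exact hne hq hq1 e.symm),
        Finset.card_pair hAB']
    have h4 : ({1, A, B} : Set ↥(normalizerMonoidHom R).range).ncard ≤ Nat.card ↥(closure {A, B}) := by
      show _ ≤ Nat.card ↥((closure {A, B} : Subgroup ↥(normalizerMonoidHom R).range) :
        Set ↥(normalizerMonoidHom R).range)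
      rw [Nat.card_coe_set_eq]
      refine Set.ncard_le_ncard ?_ (Set.toFinite _)
      rintro u (rfl | rfl | rfl)
      · exact one_mem _
      · exact subset_closure (Or.inl rfl)
      · exact subset_closure (Or.inr rfl)
    rw [show ({1, A, B} : Set ↥(normalizerMonoidHom R).range) =
      (({1, A, B} : Finset ↥(normalizerMonoidHom R).range) : Set _) by simp, Set.ncard_coe_finset, h3] at h4
    exact absurd (h4.trans hcard) (by norm_num)
  have hu := S.isTrans hx hxZ hy hyR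
  have hv : IsTrans R (k⁻¹ * y * k) (k⁻¹ * c * k) := by
    simpa using hu.conj (inv_mem hk)
  rcases h with e | e
  · exact hu.same_of_fix hab hv hsyl hcomm e
  · refine (hv.same_of_fix hab hu hsyl hcomm ?_).symm
    calc k⁻¹ * y * k * c * (k⁻¹ * y * k)⁻¹ = k⁻¹ * (y * (k * c * k⁻¹) * y⁻¹) * k := by group
      _ = c := by rw [e]; group

/-- A conjugate of `c` under `N(R)` which lies in the centre is `c` itself. -/
theorem Setup.centre_dich {k : G} (hk : k ∈ normalizer (cs (P : Subgroup G) x : Set G))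
    (h : k⁻¹ * c * k ∈ ZP (P : Subgroup G) ∨ k * c * k⁻¹ ∈ ZP (P : Subgroup G)) :
    k⁻¹ * c * k = c ∧ k * c * k⁻¹ = c := by
  have hsame := S.same_or hx hxZ hy hyR hk (h.imp (fun e => S.fix_ZP e hy) fun e => S.fix_ZP e hy)
  have e : c = k⁻¹ * c * k := (S.isTrans hx hxZ hy hyR).centre_eq
    (by simpa using (S.isTrans hx hxZ hy hyR).conj (inv_mem hk)) hsame
  exact ⟨e.symm, by nth_rewrite 1 [e]; group⟩

/-- An element fixing `c` acts on `R` as an element of `N(P)`. -/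
theorem Setup.act_of_fix {k : G} (hk : k ∈ normalizer (cs (P : Subgroup G) x : Set G))
    (hc : k * c * k⁻¹ = c) : ∃ n ∈ normalizer ((P : Subgroup G) : Set G),
      ∀ r ∈ cs (P : Subgroup G) x, k * r * k⁻¹ = n * r * n⁻¹ := by
  set R := cs (P : Subgroup G) x with hR
  have hsame := S.same_or hx hxZ hy hyR hk (Or.inr (by rw [hc]; exact S.fix_ZP S.mem hy))
  set C := centralizer (R : Set G) with hC
  have hNC : ∀ g ∈ normalizer (R : Set G), g ∈ normalizer (C : Set G) := by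
    intro g hg
    have key : ∀ g ∈ normalizer (R : Set G), ∀ a ∈ C, g * a * g⁻¹ ∈ C := by
      intro g hg a ha
      refine mem_centralizer_iff.2 fun r hr => ?_
      have hr' : g⁻¹ * r * g ∈ R := by simpa using conj_mem_of_normalizer (inv_mem hg) hr
      have h1 := congrArg (fun u => g * u * g⁻¹) (mem_centralizer_iff.1 ha _ hr')
      group at h1 ⊢
      exact h1
    refine mem_normalizer_iff.2 fun a => ⟨key g hg a, fun h => ?_⟩
    have := key _ (inv_mem hg) _ h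
    rwa [show g⁻¹ * (g * a * g⁻¹) * g⁻¹⁻¹ = a by group] at this
  have hPN : (P : Subgroup G) ≤ normalizer (C : Set G) := fun p hp =>
    hNC p (S.le_normalizer_cs hx hp)
  set M := C ⊔ (P : Subgroup G) with hM
  have hQ : ((k⁻¹ • P : Sylow 2 G) : Subgroup G) ≤ M := by
    intro g hg
    obtain ⟨p, hp, rfl⟩ : ∃ p ∈ (P : Subgroup G), k⁻¹ * p * k = g :=
      ⟨k * g * k⁻¹, by have := Fusion.mem_sylow_smul.1 hg; rwa [inv_inv] at this, by group⟩
    by_cases hpR : p ∈ R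
    · exact mem_sup_right (cs_le _ x (by simpa using conj_mem_of_normalizer (inv_mem hk) hpR))
    · have h1 := S.inv_mul_mem_cs hx hxZ hy hyR hp hpR
      have h2 : y⁻¹ * (k⁻¹ * y * k) ∈ C := by
        refine mem_centralizer_iff.2 fun r hr => ?_
        have e := hsame r hr
        calc r * (y⁻¹ * (k⁻¹ * y * k)) = y⁻¹ * (y * r * y⁻¹) * (k⁻¹ * y * k) := by group
          _ = _ := by rw [e]; group
      rw [show k⁻¹ * p * k = y * (y⁻¹ * (k⁻¹ * y * k)) * (k⁻¹ * (y⁻¹ * p) * k) by group]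
      exact mul_mem (mul_mem (mem_sup_right hy) (mem_sup_left h2))
        (mem_sup_right (cs_le _ x (by simpa using conj_mem_of_normalizer (inv_mem hk) h1)))
  obtain ⟨m, hm⟩ := MulAction.exists_smul_eq M (P.subtype le_sup_right) ((k⁻¹ • P).subtype hQ)
  rw [Sylow.smul_subtype] at hm
  have hm' : (m : G) • P = k⁻¹ • P := Sylow.subtype_injective hm
  have hkm : k * (m : G) ∈ normalizer ((P : Subgroup G) : Set G) :=
    Sylow.smul_eq_iff_mem_normalizer.1 (by rw [mul_smul, hm', smul_inv_smul])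
  obtain ⟨z, hz, p, hp, e⟩ := (Coprime.mem_sup_iff hPN).1 m.2
  refine ⟨k * z, ?_, fun r hr => ?_⟩
  · have := mul_mem hkm (inv_mem (le_normalizer hp))
    rwa [← e, show k * (z * p) * p⁻¹ = k * z by group] at this
  · have hzr := mem_centralizer_iff.1 hz r hr
    rw [show k * z * r * (k * z)⁻¹ = k * (z * r * z⁻¹) * k⁻¹ by group, ← hzr, mul_inv_cancel_right]

/-- The unfused case. -/
theorem Setup.act_of_unfused (hf : ¬ Fused c (cs (P : Subgroup G) x)) {k : G}
    (hk : k ∈ normalizer (cs (P : Subgroup G) x : Set G)) :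
    ∃ n ∈ normalizer ((P : Subgroup G) : Set G),
      ∀ r ∈ cs (P : Subgroup G) x, k * r * k⁻¹ = n * r * n⁻¹ :=
  S.act_of_fix hx hxZ hy hyR hk (by_contra fun e => hf ⟨k, hk, e⟩)

/-- The fused case. -/
structure FusedData (P : Subgroup G) (c : G) (R : Subgroup G) (t : G) (W : Subgroup G) : Prop where
  memR : t ∈ R
  notZ : t ∉ ZP P
  sq : t * t = 1
  conj_c : ∀ k ∈ normalizer (R : Set G), k * c * k⁻¹ = c ∨ k * c * k⁻¹ = t ∨ k * c * k⁻¹ = c * t
  conj_t : ∀ k ∈ normalizer (R : Set G), k * t * k⁻¹ = c ∨ k * t * k⁻¹ = t ∨ k * t * k⁻¹ = c * t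
  le : W ≤ ZP P
  notW : c ∉ W
  fused : Fused c R
  split : ∀ z ∈ ZP P, z ∈ W ∨ c * z ∈ W
  inv : ∀ k ∈ normalizer (R : Set G), ∀ w ∈ W, k * w * k⁻¹ ∈ W
  act : ∀ k ∈ normalizer (R : Set G), ∃ n ∈ normalizer (P : Set G),
    ∀ w ∈ W, k * w * k⁻¹ = n * w * n⁻¹

theorem Setup.fusedData (hf : Fused c (cs (P : Subgroup G) x)) :
    ∃ t W, FusedData (P : Subgroup G) c (cs (P : Subgroup G) x) t W := by
  set R := cs (P : Subgroup G) x with hR
  obtain ⟨k₀, hk₀, hne⟩ := hf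
  have hcR : c ∈ R := S.idx.ZP_le_cs hx S.mem
  have hdi := fun (k : G) hk => S.centre_dich hx hxZ hy hyR (k := k) hk
  set t := k₀⁻¹ * c * k₀ with ht
  have htR : t ∈ R := by simpa [ht] using conj_mem_of_normalizer (inv_mem hk₀) hcR
  have htZ : t ∉ ZP (P : Subgroup G) := fun e => hne (hdi k₀ hk₀ (Or.inl e)).2
  have hckZ : k₀ * c * k₀⁻¹ ∉ ZP (P : Subgroup G) := fun e => hne (hdi k₀ hk₀ (Or.inr e)).2
  have htt : t * t = 1 := by
    calc t * t = k₀⁻¹ * (c * c) * k₀ := by rw [ht]; group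
      _ = 1 := by rw [S.sq]; group
  have hmv : ∀ r ∈ R, r ∉ ZP (P : Subgroup G) → y * r * y⁻¹ = c * r := fun r hr hrZ =>
    S.moves_of_not hx hxZ hy hyR hr hrZ
  have hyN : y ∈ normalizer (R : Set G) := S.le_normalizer_cs hx hy
  set y' := k₀⁻¹ * y * k₀ with hy'
  have hy'N : y' ∈ normalizer (R : Set G) := mul_mem (mul_mem (inv_mem hk₀) hyN) hk₀
  have hy'fix : ∀ r ∈ R, k₀ * r * k₀⁻¹ ∈ ZP (P : Subgroup G) → y' * r * y'⁻¹ = r := by
    intro r _ hz
    calc y' * r * y'⁻¹ = k₀⁻¹ * (y * (k₀ * r * k₀⁻¹) * y⁻¹) * k₀ := by rw [hy']; group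
      _ = r := by rw [S.fix_ZP hz hy]; group
  have hy'mv : ∀ r ∈ R, k₀ * r * k₀⁻¹ ∉ ZP (P : Subgroup G) → y' * r * y'⁻¹ = t * r := by
    intro r hr hz
    calc y' * r * y'⁻¹ = k₀⁻¹ * (y * (k₀ * r * k₀⁻¹) * y⁻¹) * k₀ := by rw [hy']; group
      _ = t * r := by rw [hmv _ (conj_mem_of_normalizer hk₀ hr) hz, ht]; group
  have hcomR : ∀ {u v : G}, u ∈ R → v ∈ R → u * v = v * u := fun hu hv =>
    (S.idx.commute_cs hx hxZ hu hv).eq
  -- the three conjugates
  have hE : ∀ k ∈ normalizer (R : Set G),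
      k⁻¹ * c * k = c ∨ k⁻¹ * c * k = t ∨ k⁻¹ * c * k = c * t := by
    intro k hk
    by_contra! hno
    obtain ⟨h1, h2, h3⟩ := hno
    set d := k⁻¹ * c * k with hd
    have hdR : d ∈ R := by simpa [hd] using conj_mem_of_normalizer (inv_mem hk) hcR
    have hdZ : d ∉ ZP (P : Subgroup G) := fun e => h1 (hdi k hk (Or.inl e)).1
    have hdk : k₀ * d * k₀⁻¹ ∉ ZP (P : Subgroup G) := by
      intro e
      refine h2 ?_
      have := (hdi (k * k₀⁻¹) (mul_mem hk (inv_mem hk₀)) (Or.inl (by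
        rwa [show (k * k₀⁻¹)⁻¹ * c * (k * k₀⁻¹) = k₀ * d * k₀⁻¹ by rw [hd]; group]))).1
      calc d = k₀⁻¹ * ((k * k₀⁻¹)⁻¹ * c * (k * k₀⁻¹)) * k₀ := by rw [hd]; group
        _ = t := by rw [this]
    have e1 : y' * d * y'⁻¹ = t * d := hy'mv d hdR hdk
    have e2 : y * (t * d) * y⁻¹ = t * d := by
      rw [← conj_mul, hmv t htR htZ, hmv d hdR hdZ, hcomR hcR htR, mul_assoc, ← mul_assoc c c d, S.sq,
        one_mul]
    have e3 : t * d ∈ ZP (P : Subgroup G) := by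
      by_contra hno
      exact S.ne (mul_eq_right.1 ((hmv _ (mul_mem htR hdR) hno).symm.trans e2))
    have e4 := (hdi (k * y'⁻¹) (mul_mem hk (inv_mem hy'N)) (Or.inl (by
      rwa [show (k * y'⁻¹)⁻¹ * c * (k * y'⁻¹) = y' * d * y'⁻¹ by rw [hd]; group, e1]))).1
    rw [show (k * y'⁻¹)⁻¹ * c * (k * y'⁻¹) = y' * d * y'⁻¹ by rw [hd]; group, e1] at e4
    refine h3 ?_
    rw [hcomR hcR htR]
    calc d = t * t * d := by rw [htt, one_mul]
      _ = t * c := by rw [mul_assoc, e4]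
  have hEc : ∀ k ∈ normalizer (R : Set G),
      k * c * k⁻¹ = c ∨ k * c * k⁻¹ = t ∨ k * c * k⁻¹ = c * t := fun k hk => by
    simpa using hE k⁻¹ (inv_mem hk)
  have hEt : ∀ k ∈ normalizer (R : Set G),
      k * t * k⁻¹ = c ∨ k * t * k⁻¹ = t ∨ k * t * k⁻¹ = c * t := fun k hk => by
    have := hEc (k * k₀⁻¹) (mul_mem hk (inv_mem hk₀))
    rwa [show k * k₀⁻¹ * c * (k * k₀⁻¹)⁻¹ = k * t * k⁻¹ by rw [ht]; group] at this
  -- realisation
  have hreal : ∀ k ∈ normalizer (R : Set G), ∃ n ∈ normalizer ((P : Subgroup G) : Set G),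
      ∀ z ∈ ZP (P : Subgroup G), k₀ * z * k₀⁻¹ ∈ ZP (P : Subgroup G) →
        k * z * k⁻¹ = n * z * n⁻¹ := by
    intro k hk
    have hyt : y * t * y⁻¹ = c * t := hmv t htR htZ
    have hy'c : y' * c * y'⁻¹ = t * c := hy'mv c hcR hckZ
    obtain ⟨e, he, hec, hefix⟩ : ∃ e ∈ normalizer (R : Set G), e * c * e⁻¹ = k⁻¹ * c * k ∧
        ∀ z ∈ ZP (P : Subgroup G), k₀ * z * k₀⁻¹ ∈ ZP (P : Subgroup G) → e * z * e⁻¹ = z := by
      rcases hE k hk with e | e | e
      · exact ⟨1, one_mem _, by rw [e]; group, fun z _ _ => by group⟩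
      · refine ⟨y * y', mul_mem hyN hy'N, ?_, fun z hz hz' => ?_⟩
        · calc y * y' * c * (y * y')⁻¹ = y * (y' * c * y'⁻¹) * y⁻¹ := by group
            _ = k⁻¹ * c * k := by
              rw [hy'c, ← conj_mul, hyt, S.fix_ZP S.mem hy, e, hcomR hcR htR, mul_assoc, S.sq, mul_one]
        · calc y * y' * z * (y * y')⁻¹ = y * (y' * z * y'⁻¹) * y⁻¹ := by group
            _ = z := by rw [hy'fix z (S.idx.ZP_le_cs hx hz) hz', S.fix_ZP hz hy]
      · exact ⟨y', hy'N, by rw [hy'c, e, hcomR hcR htR], fun z hz hz' =>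
          hy'fix z (S.idx.ZP_le_cs hx hz) hz'⟩
    have hkc : k * e * c * (k * e)⁻¹ = c := by
      calc k * e * c * (k * e)⁻¹ = k * (e * c * e⁻¹) * k⁻¹ := by group
        _ = c := by rw [hec]; group
    obtain ⟨n, hn, hact⟩ := S.act_of_fix hx hxZ hy hyR (mul_mem hk he) hkc
    refine ⟨n, hn, fun z hz hz' => ?_⟩
    rw [← hact z (S.idx.ZP_le_cs hx hz)]
    calc k * z * k⁻¹ = k * (e * z * e⁻¹) * k⁻¹ := by rw [hefix z hz hz']
      _ = _ := by group
  let W : Subgroup G :=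
    { carrier := {r | r ∈ ZP (P : Subgroup G) ∧
        ∀ k ∈ normalizer (R : Set G), k * r * k⁻¹ ∈ ZP (P : Subgroup G)}
      one_mem' := ⟨one_mem _, fun k _ => by simp⟩
      mul_mem' := fun {a b} ha hb => ⟨mul_mem ha.1 hb.1, fun k hk => by
        rw [← conj_mul]; exact mul_mem (ha.2 k hk) (hb.2 k hk)⟩
      inv_mem' := fun {a} ha => ⟨inv_mem ha.1, fun k hk => by
        rw [show k * a⁻¹ * k⁻¹ = (k * a * k⁻¹)⁻¹ by group]; exact inv_mem (ha.2 k hk)⟩ }
  have hW : ∀ z ∈ ZP (P : Subgroup G), k₀ * z * k₀⁻¹ ∈ ZP (P : Subgroup G) → z ∈ W := by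
    refine fun z hz hz' => ⟨hz, fun k hk => ?_⟩
    obtain ⟨n, hn, hact⟩ := hreal k hk
    rw [hact z hz hz']
    exact conj_mem_ZP hn hz
  refine ⟨t, W, htR, htZ, htt, hEc, hEt, fun w hw => hw.1, fun hw => hckZ (hw.2 k₀ hk₀),
    ⟨k₀, hk₀, hne⟩,
    fun z hz => ?_, fun k hk w hw => ⟨hw.2 k hk, fun k' hk' => ?_⟩, fun k hk => ?_⟩
  · by_cases hz' : k₀ * z * k₀⁻¹ ∈ ZP (P : Subgroup G)
    · exact Or.inl (hW z hz hz')
    · refine Or.inr (hW _ (mul_mem S.mem hz) ?_)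
      rw [← conj_mul]
      exact S.idx.cs_le_iff hx hxZ (conj_mem_of_normalizer hk₀ hcR)
        (conj_mem_of_normalizer hk₀ (S.idx.ZP_le_cs hx hz)) hckZ hz'
  · rw [show k' * (k * w * k⁻¹) * k'⁻¹ = (k' * k) * w * (k' * k)⁻¹ by group]
    exact hw.2 _ (mul_mem hk' hk)
  · obtain ⟨n, hn, hact⟩ := hreal k hk
    exact ⟨n, hn, fun w hw => hact w hw.1 (hw.2 k₀ hk₀)⟩

end Aut

end Cfsg.Agent.H4.CentIndexFour
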