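import Mathlib

/-!
# A two-generated centre quotient: subgroups whose centre has index four

`ZP P` is the centre of `P` and `cs P x = C_P(x)`.  Squares are central, the derived subgroup is
`{1, c}` and `cs P x = ZP P ∪ x ZP P` outside the centre.
-/

set_option autoImplicit false
set_option linter.unusedSectionVars false
set_option linter.style.haveILetI false

namespace Cfsg.Agent.H4.CentIndexFour

open Subgroup

variable {G : Type*} [Group G]

/-- The centre of `P`, as a subgroup of the whole group. -/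
def ZP (P : Subgroup G) : Subgroup G := (center ↥P).map P.subtype

/-- `C_P(x)`. -/
def cs (P : Subgroup G) (x : G) : Subgroup G := P ⊓ centralizer ({x} : Set G)

theorem mem_ZP {P : Subgroup G} {x : G} : x ∈ ZP P ↔ x ∈ P ∧ ∀ y ∈ P, Commute y x := by
  constructor
  · rintro ⟨z, hz, rfl⟩
    exact ⟨z.2, fun y hy => congrArg Subtype.val (mem_center_iff.1 hz ⟨y, hy⟩)⟩
  · rintro ⟨hx, h⟩
    exact ⟨⟨x, hx⟩, mem_center_iff.2 fun y => Subtype.ext (h y y.2).eq, rfl⟩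

theorem cs_le (P : Subgroup G) (x : G) : cs P x ≤ P := inf_le_left

theorem ZP_le (P : Subgroup G) : ZP P ≤ P := map_subtype_le _

theorem commute_ZP {P : Subgroup G} {z y : G} (hz : z ∈ ZP P) (hy : y ∈ P) : Commute z y :=
  ((mem_ZP.1 hz).2 y hy).symm

theorem mem_cs {P : Subgroup G} {x g : G} : g ∈ cs P x ↔ g ∈ P ∧ Commute g x :=
  and_congr Iff.rfl mem_centralizer_singleton_iff

/-- `P` is non-abelian and its centre has index four. -/
structure Idx4 (P : Subgroup G) : Prop where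
  nonab : ¬ IsMulCommutative ↥P
  index : (center ↥P).index = 4

variable {P : Subgroup G} (h : Idx4 P)
include h

theorem Idx4.pi_iff {u v : G} (hu : u ∈ P) (hv : v ∈ P) :
    QuotientGroup.mk' (center ↥P) ⟨u, hu⟩ = QuotientGroup.mk' (center ↥P) ⟨v, hv⟩ ↔
      u⁻¹ * v ∈ ZP P := by
  rw [QuotientGroup.mk'_apply, QuotientGroup.mk'_apply, QuotientGroup.eq]
  constructor
  · exact fun hm => ⟨_, hm, rfl⟩
  · rintro ⟨z, hz, e⟩
    have : z = ⟨u, hu⟩⁻¹ * ⟨v, hv⟩ := Subtype.ext e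
    exact this ▸ hz

theorem Idx4.pi_one {u : G} (hu : u ∈ P) :
    QuotientGroup.mk' (center ↥P) ⟨u, hu⟩ = 1 ↔ u ∈ ZP P := by
  have := h.pi_iff P.one_mem hu
  rw [inv_one, one_mul, show (⟨1, P.one_mem⟩ : ↥P) = 1 from rfl, map_one] at this
  rw [eq_comm]
  exact this

theorem Idx4.exp (q : ↥P ⧸ center ↥P) : q * q = 1 := by
  haveI : Finite (↥P ⧸ center ↥P) :=
    Nat.finite_of_card_ne_zero (by rw [← Subgroup.index_eq_card, h.index]; norm_num)
  have h4 : orderOf q ∣ 4 := h.index ▸ (Subgroup.index_eq_card (center ↥P) ▸ orderOf_dvd_natCard q)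
  have hcase : orderOf q ∣ 2 ∨ orderOf q = 4 := by
    have := Nat.le_of_dvd (by norm_num) h4
    interval_cases orderOf q <;> simp_all
  rcases hcase with h2 | h2
  · rw [← pow_two]; exact orderOf_dvd_iff_pow_eq_one.1 h2
  · exfalso
    haveI : IsCyclic (↥P ⧸ center ↥P) := isCyclic_of_orderOf_eq_card q
      (by rw [h2, ← Subgroup.index_eq_card, h.index])
    exact h.nonab ⟨⟨commutative_of_cyclic_center_quotient (QuotientGroup.mk' (center ↥P))
      (QuotientGroup.ker_mk' _).le⟩⟩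

theorem Idx4.sq_mem {g : G} (hg : g ∈ P) : g * g ∈ ZP P :=
  (h.pi_one (mul_mem hg hg)).1 ((map_mul _ (⟨g, hg⟩ : ↥P) ⟨g, hg⟩).trans (h.exp _))

/-- Two independent elements outside the centre cover the four cosets. -/
theorem Idx4.cover {x y : G} (hx : x ∈ P) (hy : y ∈ P) (hxZ : x ∉ ZP P) (hyZ : y ∉ ZP P)
    (hxy : x⁻¹ * y ∉ ZP P) {g : G} (hg : g ∈ P) :
    g ∈ ZP P ∨ x⁻¹ * g ∈ ZP P ∨ y⁻¹ * g ∈ ZP P ∨ (x * y)⁻¹ * g ∈ ZP P := by
  classical
  haveI : Finite (↥P ⧸ center ↥P) :=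
    Nat.finite_of_card_ne_zero (by rw [← Subgroup.index_eq_card, h.index]; norm_num)
  haveI := Fintype.ofFinite (↥P ⧸ center ↥P)
  set π := QuotientGroup.mk' (center ↥P) with hπ
  have hne : (1 : ↥P ⧸ center ↥P) ≠ π ⟨x, hx⟩ := fun e => hxZ ((h.pi_one hx).1 e.symm)
  have hne2 : (1 : ↥P ⧸ center ↥P) ≠ π ⟨y, hy⟩ := fun e => hyZ ((h.pi_one hy).1 e.symm)
  have hne3 : π ⟨x, hx⟩ ≠ π ⟨y, hy⟩ := fun e => hxy ((h.pi_iff hx hy).1 e)
  have h12 : π ⟨x, hx⟩ * π ⟨y, hy⟩ ≠ 1 := fun e => hne3 (mul_right_cancel (e.trans (h.exp _).symm))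
  have h13 : π ⟨x, hx⟩ * π ⟨y, hy⟩ ≠ π ⟨x, hx⟩ := fun e => hne2 (mul_eq_left.1 e).symm
  have h14 : π ⟨x, hx⟩ * π ⟨y, hy⟩ ≠ π ⟨y, hy⟩ := fun e => hne (mul_eq_right.1 e).symm
  have hall : ({1, π ⟨x, hx⟩, π ⟨y, hy⟩, π ⟨x, hx⟩ * π ⟨y, hy⟩} : Finset (↥P ⧸ center ↥P)) =
      Finset.univ := by
    refine Finset.eq_univ_of_card _ ?_
    rw [Finset.card_insert_of_notMem (by simp [hne, hne2, h12.symm]),
      Finset.card_insert_of_notMem (by simp [hne3, h13.symm]),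
      Finset.card_insert_of_notMem (by simp [h14.symm]), Finset.card_singleton,
      ← Nat.card_eq_fintype_card, ← Subgroup.index_eq_card, h.index]
  have := hall ▸ Finset.mem_univ (π ⟨g, hg⟩)
  simp only [Finset.mem_insert, Finset.mem_singleton] at this
  rcases this with e | e | e | e
  · exact Or.inl ((h.pi_one hg).1 e)
  · exact Or.inr (Or.inl ((h.pi_iff hx hg).1 e.symm))
  · exact Or.inr (Or.inr (Or.inl ((h.pi_iff hy hg).1 e.symm)))
  · rw [← map_mul] at e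
    exact Or.inr (Or.inr (Or.inr ((h.pi_iff (mul_mem hx hy) hg).1 e.symm)))

theorem Idx4.exists_out {x : G} (hx : x ∈ P) : ∃ y ∈ P, y ∉ ZP P ∧ x⁻¹ * y ∉ ZP P := by
  by_contra! hno
  refine h.nonab ⟨⟨fun u v => Subtype.ext ?_⟩⟩
  have key : ∀ g ∈ P, Commute g x := by
    intro g hg
    by_cases e : g ∈ ZP P
    · exact commute_ZP e hx
    · rw [show g = x * (x⁻¹ * g) by group]
      exact (Commute.refl x).mul_left (commute_ZP (hno g hg e) hx)
  by_cases e : (u : G) ∈ ZP P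
  · exact (commute_ZP e v.2).eq
  · have h2 := (key v v.2).symm.mul_left (commute_ZP (hno u u.2 e) v.2)
    rw [mul_inv_cancel_left] at h2
    exact h2.eq

/-- An element commuting with two independent elements is central. -/
theorem Idx4.mem_ZP_of_commute {x y g : G} (hx : x ∈ P) (hy : y ∈ P) (hxZ : x ∉ ZP P)
    (hyZ : y ∉ ZP P) (hxy : x⁻¹ * y ∉ ZP P) (hg : g ∈ P) (hgx : Commute g x) (hgy : Commute g y) :
    g ∈ ZP P := by
  refine mem_ZP.2 ⟨hg, fun u hu => ?_⟩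
  rcases h.cover hx hy hxZ hyZ hxy hu with e | e | e | e
  · exact commute_ZP e hg
  · have := hgx.symm.mul_left (commute_ZP e hg)
    rwa [mul_inv_cancel_left] at this
  · have := hgy.symm.mul_left (commute_ZP e hg)
    rwa [mul_inv_cancel_left] at this
  · have := (hgx.symm.mul_left hgy.symm).mul_left (commute_ZP e hg)
    rwa [mul_inv_cancel_left] at this

/-- `C_P(x)` is the centre and the coset of `x`. -/
theorem Idx4.mem_cs_iff {x g : G} (hx : x ∈ P) (hxZ : x ∉ ZP P) :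
    g ∈ cs P x ↔ g ∈ ZP P ∨ x⁻¹ * g ∈ ZP P := by
  constructor
  · intro hg
    obtain ⟨hgP, hgx⟩ := mem_cs.1 hg
    by_contra! hno
    exact hxZ (h.mem_ZP_of_commute hx hgP hxZ hno.1 hno.2 hx (Commute.refl x) hgx.symm)
  · rintro (e | e)
    · exact mem_cs.2 ⟨ZP_le P e, commute_ZP e hx⟩
    · refine mem_cs.2 ⟨?_, ?_⟩
      · simpa using mul_mem hx (ZP_le P e)
      · have := (Commute.refl x).mul_left (commute_ZP e hx)
        rwa [mul_inv_cancel_left] at this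

theorem Idx4.ZP_le_cs {x : G} (hx : x ∈ P) : ZP P ≤ cs P x :=
  fun _ e => mem_cs.2 ⟨ZP_le P e, commute_ZP e hx⟩

theorem Idx4.commute_cs {x u v : G} (hx : x ∈ P) (hxZ : x ∉ ZP P) (hu : u ∈ cs P x)
    (hv : v ∈ cs P x) : Commute u v := by
  rcases (h.mem_cs_iff hx hxZ).1 hu with e | e
  · exact commute_ZP e (cs_le P x hv)
  · have := ((mem_cs.1 hv).2.symm).mul_left (commute_ZP e (cs_le P x hv))
    rwa [mul_inv_cancel_left] at this

theorem Idx4.cs_eq {x u : G} (hx : x ∈ P) (hxZ : x ∉ ZP P) (hu : u ∈ cs P x) (huZ : u ∉ ZP P) :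
    cs P u = cs P x := by
  have huP := cs_le P x hu
  have key : x⁻¹ * u ∈ ZP P := ((h.mem_cs_iff hx hxZ).1 hu).resolve_left huZ
  ext g
  rw [h.mem_cs_iff huP huZ, h.mem_cs_iff hx hxZ]
  refine or_congr Iff.rfl ⟨fun e => ?_, fun e => ?_⟩
  · have := mul_mem key e
    rwa [show x⁻¹ * u * (u⁻¹ * g) = x⁻¹ * g by group] at this
  · have := mul_mem (inv_mem key) e
    rwa [show (x⁻¹ * u)⁻¹ * (x⁻¹ * g) = u⁻¹ * g by group] at this

theorem Idx4.cs_le_iff {x : G} (hx : x ∈ P) (hxZ : x ∉ ZP P) {u v : G} (hu : u ∈ cs P x)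
    (hv : v ∈ cs P x) (huZ : u ∉ ZP P) (hvZ : v ∉ ZP P) : u * v ∈ ZP P := by
  have h1 := ((h.mem_cs_iff hx hxZ).1 hu).resolve_left huZ
  have h2 := ((h.mem_cs_iff hx hxZ).1 hv).resolve_left hvZ
  have h3 : u * v = (x * x) * ((x⁻¹ * u) * (x⁻¹ * v)) := by
    calc u * v = x * ((x⁻¹ * u) * x) * (x⁻¹ * v) := by group
      _ = x * (x * (x⁻¹ * u)) * (x⁻¹ * v) := by rw [(commute_ZP h1 hx).eq]
      _ = _ := by group
  exact h3 ▸ mul_mem (h.sq_mem hx) (mul_mem h1 h2)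

/-- The derived subgroup is `{1, c}`. -/
theorem Idx4.exists_com : ∃ c ∈ ZP P, c ≠ 1 ∧ c * c = 1 ∧
    ∀ x ∈ P, ∀ y ∈ P, (x * y * x⁻¹ = y ∨ x * y * x⁻¹ = c * y) ∧
      (x ∉ ZP P → y ∉ cs P x → x * y * x⁻¹ = c * y) := by
  obtain ⟨a, ha, haZ, -⟩ := h.exists_out P.one_mem
  obtain ⟨b, hb, hbZ, hab⟩ := h.exists_out ha
  set c := a * b * a⁻¹ * b⁻¹ with hc
  have hcm : c ∈ ZP P := by
    refine (h.pi_one (mul_mem (mul_mem (mul_mem ha hb) (inv_mem ha)) (inv_mem hb))).1 ?_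
    have e : ∀ p q : ↥P ⧸ center ↥P, p * q * p⁻¹ * q⁻¹ = 1 := fun p q => by
      have hinv : ∀ r : ↥P ⧸ center ↥P, r⁻¹ = r := fun r => inv_eq_of_mul_eq_one_right (h.exp r)
      rw [hinv, hinv, mul_assoc (p * q) p q]
      exact h.exp _
    have := e (QuotientGroup.mk' (center ↥P) ⟨a, ha⟩) (QuotientGroup.mk' (center ↥P) ⟨b, hb⟩)
    rw [← map_mul, ← map_inv, ← map_mul, ← map_inv, ← map_mul] at this
    exact this
  have hc1 : c ≠ 1 := fun e => haZ (h.mem_ZP_of_commute ha hb haZ hbZ hab ha (Commute.refl a)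
    (mul_inv_eq_iff_eq_mul.1 (mul_inv_eq_one.1 e)))
  have hcc : c * c = 1 := by
    have h1 : a * c * a⁻¹ = c := by rw [(commute_ZP hcm ha).symm.eq, mul_inv_cancel_right]
    calc c * c = a * c * a⁻¹ * c := by rw [h1]
      _ = a * a * b * (a * a)⁻¹ * b⁻¹ := by rw [hc]; group
      _ = 1 := by rw [(commute_ZP (h.sq_mem ha) hb).eq]; group
  have hci : c⁻¹ = c := inv_eq_of_mul_eq_one_right hcc
  -- conjugation by an element is `r ↦ r` or `r ↦ c r`
  have hval : ∀ x ∈ P, ∀ y ∈ P, x * y * x⁻¹ * y⁻¹ = 1 ∨ x * y * x⁻¹ * y⁻¹ = c := by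
    have hmulr : ∀ x ∈ P, ∀ u ∈ P, ∀ v ∈ P,
        (x * u * x⁻¹ * u⁻¹ = 1 ∨ x * u * x⁻¹ * u⁻¹ = c) →
        (x * v * x⁻¹ * v⁻¹ = 1 ∨ x * v * x⁻¹ * v⁻¹ = c) →
        (x * (u * v) * x⁻¹ * (u * v)⁻¹ = 1 ∨ x * (u * v) * x⁻¹ * (u * v)⁻¹ = c) := by
      intro x _ u hu v _ h1 h2
      have e : x * (u * v) * x⁻¹ * (u * v)⁻¹ =
          (x * u * x⁻¹ * u⁻¹) * (u * (x * v * x⁻¹ * v⁻¹) * u⁻¹) := by group
      have hcu : u * c * u⁻¹ = c := by rw [(commute_ZP hcm hu).symm.eq, mul_inv_cancel_right]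
      rcases h1 with h1 | h1 <;> rcases h2 with h2 | h2 <;> rw [e, h1, h2] <;>
        simp [hcu, hcc]
    have hz : ∀ x ∈ P, ∀ u ∈ ZP P, x * u * x⁻¹ * u⁻¹ = 1 := fun x hx u hu => by
      rw [(commute_ZP hu hx).symm.eq]; group
    have hswap : ∀ {x y : G}, (x * y * x⁻¹ * y⁻¹ = 1 ∨ x * y * x⁻¹ * y⁻¹ = c) →
        (y * x * y⁻¹ * x⁻¹ = 1 ∨ y * x * y⁻¹ * x⁻¹ = c) := fun {x y} e => by
      have e' : y * x * y⁻¹ * x⁻¹ = (x * y * x⁻¹ * y⁻¹)⁻¹ := by group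
      rcases e with e | e <;> rw [e', e] <;> simp [hci]
    have hgen : ∀ x ∈ P, (x * a * x⁻¹ * a⁻¹ = 1 ∨ x * a * x⁻¹ * a⁻¹ = c) →
        (x * b * x⁻¹ * b⁻¹ = 1 ∨ x * b * x⁻¹ * b⁻¹ = c) → ∀ y ∈ P,
        (x * y * x⁻¹ * y⁻¹ = 1 ∨ x * y * x⁻¹ * y⁻¹ = c) := by
      intro x hx hxa hxb y hy
      rcases h.cover ha hb haZ hbZ hab hy with e | e | e | e
      · exact Or.inl (hz x hx y e)
      · have := hmulr x hx a ha _ (ZP_le P e) hxa (Or.inl (hz x hx _ e))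
        rwa [mul_inv_cancel_left] at this
      · have := hmulr x hx b hb _ (ZP_le P e) hxb (Or.inl (hz x hx _ e))
        rwa [mul_inv_cancel_left] at this
      · have := hmulr x hx (a * b) (mul_mem ha hb) _ (ZP_le P e) (hmulr x hx a ha b hb hxa hxb)
          (Or.inl (hz x hx _ e))
        rwa [mul_inv_cancel_left] at this
    have haa : a * a * a⁻¹ * a⁻¹ = 1 ∨ a * a * a⁻¹ * a⁻¹ = c := Or.inl (by group)
    have hbb : b * b * b⁻¹ * b⁻¹ = 1 ∨ b * b * b⁻¹ * b⁻¹ = c := Or.inl (by group)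
    have hA := hgen a ha haa (Or.inr rfl)
    have hB := hgen b hb (hswap (Or.inr rfl)) hbb
    exact fun x hx y hy => hgen x hx (hswap (hA x hx)) (hswap (hB x hx)) y hy
  refine ⟨c, hcm, hc1, hcc, fun x hx y hy => ⟨?_, fun _ hyC => ?_⟩⟩
  · rcases hval x hx y hy with e | e
    · exact Or.inl (mul_inv_eq_one.1 e)
    · exact Or.inr (mul_inv_eq_iff_eq_mul.1 e)
  · rcases hval x hx y hy with e | e
    · exact absurd (mem_cs.2 ⟨hy, (mul_inv_eq_iff_eq_mul.1 (mul_inv_eq_one.1 e)).symm⟩) hyC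
    · exact mul_inv_eq_iff_eq_mul.1 e

end Cfsg.Agent.H4.CentIndexFour
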