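import Cfsg.Agent.H52.Commuting.Product
import Cfsg.Agent.H70.Balanced.Graph
import Cfsg.Agent.Coprime.Abelian
import Cfsg.Agent.Fusion.Basic
import Cfsg.Prelude.Def_CaseTheorems

/-!
# An abelian Sylow subgroup with an invariant subgroup of index four

In a simple group with abelian Sylow `2`-subgroup `T`, if `N(T)` moves the three cosets of an
invariant subgroup of index four (with elementary quotient), then the `2`-rank is at most two: every
involution lies in an invariant four group, and two invariant disjoint subgroups cannot both be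
non-trivial.
-/

set_option autoImplicit false
set_option linter.unusedSectionVars false
set_option linter.style.haveILetI false

namespace Cfsg.Agent.H4.CentIndexFour

open Subgroup
open scoped commutatorElement

variable {Q : Type*} [Group Q] [Finite Q] [IsSimpleGroup Q] (hQ : ¬ IsMulCommutative Q)
  {T : Sylow 2 Q} (hT : IsMulCommutative ↥(T : Subgroup Q))
include hQ hT

theorem closed_of_invariant {U : Subgroup Q} (hU : U ≤ (T : Subgroup Q))
    (hinv : ∀ g ∈ normalizer ((T : Subgroup Q) : Set Q), ∀ u ∈ U, g * u * g⁻¹ ∈ U) :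
    Cfsg.IsStronglyClosed U (T : Subgroup Q) := by
  haveI : Fact (Nat.Prime 2) := ⟨Nat.prime_two⟩
  refine ⟨hU, fun u hu g hg => ?_⟩
  obtain ⟨n, hn, e⟩ := Fusion.controlsElementFusion_normalizer_of_commutative T hT u (hU hu) g hg
  exact e ▸ hinv n hn u hu

/-- Two invariant disjoint subgroups are not both non-trivial. -/
theorem invariant_disjoint {U V : Subgroup Q} (hU : U ≤ (T : Subgroup Q)) (hV : V ≤ (T : Subgroup Q))
    (hUi : ∀ g ∈ normalizer ((T : Subgroup Q) : Set Q), ∀ u ∈ U, g * u * g⁻¹ ∈ U)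
    (hVi : ∀ g ∈ normalizer ((T : Subgroup Q) : Set Q), ∀ u ∈ V, g * u * g⁻¹ ∈ V)
    (hd : U ⊓ V = ⊥) : U = ⊥ ∨ V = ⊥ := by
  by_contra! hno
  have hp : H52.Commuting.Pair T U V := ⟨closed_of_invariant hQ hT hU hUi, closed_of_invariant hQ hT hV hVi,
    fun a ha b hb => congrArg Subtype.val (hT.1.comm ⟨a, hU ha⟩ ⟨b, hV hb⟩), hd⟩
  have hO : Cfsg.oddCore Q = ⊥ := by
    refine (show (Cfsg.oddCore Q).Normal from inferInstance).eq_bot_or_eq_top.resolve_right fun h => ?_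
    have hodd := Cores.odd_card_oddCore (G := Q)
    rw [h, card_top] at hodd
    refine hno.1 (eq_bot_iff.2 fun u hu => mem_bot.2 ?_)
    obtain ⟨j, hj⟩ := T.isPGroup' ⟨u, hU hu⟩
    have h1 : u ^ 2 ^ j = 1 := congrArg Subtype.val hj
    have h2 : u ^ Nat.card Q = 1 := pow_card_eq_one'
    have h3 := pow_gcd_eq_one.2 ⟨h1, h2⟩
    rwa [(Nat.coprime_two_left.2 hodd).pow_left j |>.gcd_eq_one, pow_one] at h3
  have h := H52.Commuting.le_centralizer_closures hp hO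
  have htop : ∀ {X : Subgroup Q}, X ≠ ⊥ → normalClosure (X : Set Q) = ⊤ := fun {X} hX =>
    normalClosure_normal.eq_bot_or_eq_top.resolve_left fun e => hX (eq_bot_iff.2 (e ▸ le_normalClosure))
  rw [htop hno.1, htop hno.2] at h
  exact hQ ⟨⟨fun a b => mem_centralizer_iff.1 (h (mem_top b)) a (mem_top a)⟩⟩

variable {A : Subgroup Q} (hA : A ≤ normalizer ((T : Subgroup Q) : Set Q)) (hAodd : Odd (Nat.card A))
  (hsup : ∀ g ∈ normalizer ((T : Subgroup Q) : Set Q), ∃ t ∈ (T : Subgroup Q), ∃ a ∈ A, g = t * a)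
include hA hAodd hsup

theorem invariant_of_complement {U : Subgroup Q} (hU : U ≤ (T : Subgroup Q))
    (hinv : ∀ a ∈ A, ∀ u ∈ U, a * u * a⁻¹ ∈ U) :
    ∀ g ∈ normalizer ((T : Subgroup Q) : Set Q), ∀ u ∈ U, g * u * g⁻¹ ∈ U := by
  intro g hg u hu
  obtain ⟨t, ht, a, ha, rfl⟩ := hsup g hg
  rw [show t * a * u * (t * a)⁻¹ = t * (a * u * a⁻¹) * t⁻¹ by group]
  have h := hinv a ha u hu
  rwa [show t * (a * u * a⁻¹) = a * u * a⁻¹ * t from
    congrArg Subtype.val (hT.1.comm ⟨t, ht⟩ ⟨_, hU h⟩), mul_inv_cancel_right]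

/-- An invariant subgroup of `A` centralises `T` or acts without fixed points. -/
theorem trivial_or_free {K : Subgroup Q} (hKA : K ≤ A) (hKn : ∀ a ∈ A, ∀ k ∈ K, a * k * a⁻¹ ∈ K) :
    ⁅(T : Subgroup Q), K⁆ = ⊥ ∨ (T : Subgroup Q) ⊓ centralizer (K : Set Q) = ⊥ := by
  haveI : Fact (Nat.Prime 2) := ⟨Nat.prime_two⟩
  haveI := hT
  have hKN := hKA.trans hA
  have hcop : (Nat.card K).Coprime (Nat.card ↥(T : Subgroup Q)) := by
    obtain ⟨j, hj⟩ := IsPGroup.iff_card.1 T.isPGroup'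
    rw [hj]
    exact Nat.Coprime.pow_right j (Nat.coprime_two_right.2 (hAodd.of_dvd_nat (card_dvd_of_le hKA)))
  obtain ⟨hd, -⟩ := Coprime.abelian_decomposition hKN hcop
  have hle : ⁅(T : Subgroup Q), K⁆ ≤ (T : Subgroup Q) := Coprime.commutator_le_left_of_normalizer hKN
  have hKmap : ∀ a ∈ A, K.map (MulAut.conj a).toMonoidHom = K := fun a ha =>
    eq_of_le_of_card_ge (by rintro _ ⟨k, hk, rfl⟩; exact hKn a ha k hk)
      (Coprime.card_map_conj a K).ge
  refine (invariant_disjoint hQ hT inf_le_left hle ?_ ?_ hd).symm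
  · refine invariant_of_complement hQ hT hA hAodd hsup inf_le_left fun a ha u hu => ?_
    refine mem_inf.2 ⟨Coprime.conj_mem (hA ha) hu.1, mem_centralizer_iff.2 fun k hk => ?_⟩
    have hk' : a⁻¹ * k * a ∈ K := by simpa using hKn a⁻¹ (inv_mem ha) k hk
    have h1 := congrArg (fun v => a * v * a⁻¹) (mem_centralizer_iff.1 hu.2 _ hk')
    group at h1 ⊢
    exact h1
  · refine invariant_of_complement hQ hT hA hAodd hsup hle fun a ha u hu => ?_
    have : a * u * a⁻¹ ∈ (⁅(T : Subgroup Q), K⁆).map (MulAut.conj a).toMonoidHom := ⟨u, hu, rfl⟩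
    rwa [map_commutator, hKmap a ha, Coprime.map_conj_eq (hA ha)] at this

variable {Zb : Subgroup Q} (hZT : Zb ≤ (T : Subgroup Q))
  (hZi : ∀ g ∈ normalizer ((T : Subgroup Q) : Set Q), ∀ z ∈ Zb, g * z * g⁻¹ ∈ Zb)
  (hcover : ∀ u ∈ (T : Subgroup Q), ∀ v ∈ (T : Subgroup Q), u ∉ Zb → v ∉ Zb → u⁻¹ * v ∉ Zb →
    ∀ w ∈ (T : Subgroup Q), w ∈ Zb ∨ u⁻¹ * w ∈ Zb ∨ v⁻¹ * w ∈ Zb ∨ (u * v)⁻¹ * w ∈ Zb)
  (hsq : ∀ w ∈ (T : Subgroup Q), w * w ∈ Zb)
  (hind : ∃ u ∈ (T : Subgroup Q), ∃ v ∈ (T : Subgroup Q), u ∉ Zb ∧ v ∉ Zb ∧ u⁻¹ * v ∉ Zb)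
  (hmove : ∃ a ∈ A, ∃ t ∈ (T : Subgroup Q), t⁻¹ * (a * t * a⁻¹) ∉ Zb)
include hZT hZi hcover hsq hind hmove

/-- The elements of `A` acting trivially on the cosets of `Zb` centralise `T`. -/
theorem centralise_of_trivial {k : Q} (hk : k ∈ A)
    (htr : ∀ t ∈ (T : Subgroup Q), t⁻¹ * (k * t * k⁻¹) ∈ Zb) :
    ∀ t ∈ (T : Subgroup Q), k * t * k⁻¹ = t := by
  let K : Subgroup Q :=
    { carrier := {a | a ∈ A ∧ ∀ t ∈ (T : Subgroup Q), t⁻¹ * (a * t * a⁻¹) ∈ Zb}
      one_mem' := ⟨one_mem _, fun t _ => by simp⟩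
      mul_mem' := fun {a b} ha hb => ⟨mul_mem ha.1 hb.1, fun t ht => by
        have h1 := ha.2 _ (Coprime.conj_mem (hA hb.1) ht)
        have := mul_mem (hb.2 t ht) h1
        rwa [show t⁻¹ * (b * t * b⁻¹) * ((b * t * b⁻¹)⁻¹ * (a * (b * t * b⁻¹) * a⁻¹)) =
          t⁻¹ * (a * b * t * (a * b)⁻¹) by group] at this⟩
      inv_mem' := fun {a} ha => ⟨inv_mem ha.1, fun t ht => by
        have h1 := inv_mem (ha.2 _ (Coprime.conj_mem (hA (inv_mem ha.1)) ht))
        rwa [show ((a⁻¹ * t * a⁻¹⁻¹)⁻¹ * (a * (a⁻¹ * t * a⁻¹⁻¹) * a⁻¹))⁻¹ =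
          t⁻¹ * (a⁻¹ * t * a⁻¹⁻¹) by group] at h1⟩ }
  have hKn : ∀ a ∈ A, ∀ u ∈ K, a * u * a⁻¹ ∈ K := by
    refine fun a ha u hu => ⟨mul_mem (mul_mem ha hu.1) (inv_mem ha), fun t ht => ?_⟩
    have ht' : a⁻¹ * t * a ∈ (T : Subgroup Q) := Coprime.conj_mem' (hA ha) ht
    have := hZi a (hA ha) _ (hu.2 _ ht')
    rwa [show a * ((a⁻¹ * t * a)⁻¹ * (u * (a⁻¹ * t * a) * u⁻¹)) * a⁻¹ =
      t⁻¹ * (a * u * a⁻¹ * t * (a * u * a⁻¹)⁻¹) by group] at this
  have hcom : ⁅(T : Subgroup Q), K⁆ ≤ Zb := commutator_le.2 fun t ht a ha => by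
    have := ha.2 t⁻¹ (inv_mem ht)
    rwa [inv_inv, ← mul_assoc, ← mul_assoc, ← commutatorElement_def] at this
  rcases trivial_or_free hQ hT hA hAodd hsup (K := K) (fun a ha => ha.1) hKn with h | h
  · intro t ht
    have h1 : ⁅t, k⁆ ∈ ⁅(T : Subgroup Q), K⁆ := commutator_mem_commutator ht ⟨hk, htr⟩
    rw [h, mem_bot, commutatorElement_eq_one_iff_mul_comm] at h1
    rw [← h1, mul_inv_cancel_right]
  · exfalso
    haveI := hT
    have hcop : (Nat.card K).Coprime (Nat.card ↥(T : Subgroup Q)) := by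
      haveI : Fact (Nat.Prime 2) := ⟨Nat.prime_two⟩
      obtain ⟨j, hj⟩ := IsPGroup.iff_card.1 T.isPGroup'
      rw [hj]
      exact Nat.Coprime.pow_right j (Nat.coprime_two_right.2 (hAodd.of_dvd_nat
        (card_dvd_of_le (fun a ha => ha.1))))
    have hdec := (Coprime.abelian_decomposition (V := (T : Subgroup Q))
      (fun a (ha : a ∈ K) => hA ha.1) hcop).2
    rw [h, bot_sup_eq] at hdec
    obtain ⟨u, hu, -, -, huZ, -⟩ := hind
    exact huZ (hcom (hdec.symm ▸ hu))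

/-- An element of `A` fixing one nontrivial coset acts trivially. -/
theorem trivial_of_fix {k x : Q} (hk : k ∈ A) (hx : x ∈ (T : Subgroup Q)) (hxZ : x ∉ Zb)
    (hfix : x⁻¹ * (k * x * k⁻¹) ∈ Zb) : ∀ t ∈ (T : Subgroup Q), t⁻¹ * (k * t * k⁻¹) ∈ Zb := by
  have hc : ∀ {p q : Q}, p ∈ (T : Subgroup Q) → q ∈ (T : Subgroup Q) → p * q = q * p := fun hp hq =>
    congrArg Subtype.val (hT.1.comm ⟨_, hp⟩ ⟨_, hq⟩)
  have hkN := hA hk
  have hmul : ∀ {g p q : Q}, g ∈ normalizer ((T : Subgroup Q) : Set Q) → p ∈ (T : Subgroup Q) →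
      q ∈ (T : Subgroup Q) → p⁻¹ * (g * p * g⁻¹) ∈ Zb → q⁻¹ * (g * q * g⁻¹) ∈ Zb →
      (p * q)⁻¹ * (g * (p * q) * g⁻¹) ∈ Zb := fun {g p q} hg hp hq e1 e2 => by
    have := mul_mem e1 e2
    rwa [show (p * q)⁻¹ * (g * (p * q) * g⁻¹) = q⁻¹ * (p⁻¹ * (g * p * g⁻¹)) * q * (q⁻¹ * (g * q * g⁻¹))
      by group, mul_assoc q⁻¹, hc (hZT e1) hq, inv_mul_cancel_left]
  obtain ⟨y, hy, hyZ, hxy⟩ : ∃ y ∈ (T : Subgroup Q), y ∉ Zb ∧ x⁻¹ * y ∉ Zb := by
    obtain ⟨u, hu, v, hv, huZ, hvZ, huv⟩ := hind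
    by_cases e : x⁻¹ * u ∈ Zb
    · refine ⟨v, hv, hvZ, fun e' => huv ?_⟩
      have := mul_mem (inv_mem e) e'
      rwa [show (x⁻¹ * u)⁻¹ * (x⁻¹ * v) = u⁻¹ * v by group] at this
    · exact ⟨u, hu, huZ, e⟩
  have hall : ∀ g ∈ normalizer ((T : Subgroup Q) : Set Q), x⁻¹ * (g * x * g⁻¹) ∈ Zb →
      y⁻¹ * (g * y * g⁻¹) ∈ Zb → ∀ t ∈ (T : Subgroup Q), t⁻¹ * (g * t * g⁻¹) ∈ Zb := by
    intro g hg ex ey t ht
    have hz : ∀ z ∈ Zb, z⁻¹ * (g * z * g⁻¹) ∈ Zb := fun z hz => mul_mem (inv_mem hz) (hZi g hg z hz)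
    rcases hcover x hx y hy hxZ hyZ hxy t ht with e | e | e | e
    · exact hz t e
    · have := hmul hg hx (hZT e) ex (hz _ e)
      rwa [mul_inv_cancel_left] at this
    · have := hmul hg hy (hZT e) ey (hz _ e)
      rwa [mul_inv_cancel_left] at this
    · have := hmul hg (mul_mem hx hy) (hZT e) (hmul hg hx hy ex ey) (hz _ e)
      rwa [mul_inv_cancel_left] at this
  by_cases ey : y⁻¹ * (k * y * k⁻¹) ∈ Zb
  · exact hall k hkN hfix ey
  -- `k` exchanges the two other cosets, so `k * k` fixes them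
  have hy' := Coprime.conj_mem hkN hy
  have e2 : (x * y)⁻¹ * (k * y * k⁻¹) ∈ Zb := by
    rcases hcover x hx y hy hxZ hyZ hxy _ hy' with e | e | e | e
    · exfalso
      have := hZi k⁻¹ (inv_mem hkN) _ e
      rw [show k⁻¹ * (k * y * k⁻¹) * k⁻¹⁻¹ = y by group] at this
      exact hyZ this
    · exfalso
      have h1 := mul_mem (inv_mem hfix) e
      rw [show (x⁻¹ * (k * x * k⁻¹))⁻¹ * (x⁻¹ * (k * y * k⁻¹)) = k * (x⁻¹ * y) * k⁻¹ by group] at h1
      have := hZi k⁻¹ (inv_mem hkN) _ h1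
      rw [show k⁻¹ * (k * (x⁻¹ * y) * k⁻¹) * k⁻¹⁻¹ = x⁻¹ * y by group] at this
      exact hxy this
    · exact absurd e ey
    · exact e
  have hk2x : x⁻¹ * (k * k * x * (k * k)⁻¹) ∈ Zb := by
    have := mul_mem hfix (hZi k hkN _ hfix)
    rwa [show x⁻¹ * (k * x * k⁻¹) * (k * (x⁻¹ * (k * x * k⁻¹)) * k⁻¹) = x⁻¹ * (k * k * x * (k * k)⁻¹) by
      group] at this
  have hk2y : y⁻¹ * (k * k * y * (k * k)⁻¹) ∈ Zb := by
    have h1 := mul_mem (mul_mem (mul_mem e2 (hsq x hx)) hfix) (hZi k hkN _ e2)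
    have eq : ∀ P' K' : Q, P' ∈ (T : Subgroup Q) → K' ∈ (T : Subgroup Q) →
        (x * y)⁻¹ * P' * (x * x) * (x⁻¹ * K') = y⁻¹ * (K' * P') := by
      intro P' K' hP hK
      calc (x * y)⁻¹ * P' * (x * x) * (x⁻¹ * K') = y⁻¹ * x⁻¹ * (P' * x) * K' := by group
        _ = y⁻¹ * (P' * K') := by rw [hc hP hx]; group
        _ = _ := by rw [hc hP hK]
    rw [eq _ _ hy' (Coprime.conj_mem hkN hx)] at h1
    rwa [show y⁻¹ * (k * x * k⁻¹ * (k * y * k⁻¹)) * (k * ((x * y)⁻¹ * (k * y * k⁻¹)) * k⁻¹) =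
      y⁻¹ * (k * k * y * (k * k)⁻¹) by group] at h1
  -- `k` is a power of `k * k`
  have h2 := hall (k * k) (mul_mem hkN hkN) hk2x hk2y
  have hcen := centralise_of_trivial hQ hT hA hAodd hsup hZT hZi hcover hsq hind hmove (mul_mem hk hk) h2
  exfalso
  refine ey ?_
  obtain ⟨m, hm⟩ : Odd (orderOf k) := hAodd.of_dvd_nat (by
    rw [← Subgroup.orderOf_mk _ hk]; exact orderOf_dvd_natCard _)
  have hk' : k = (k * k) ^ (m + 1) := by
    calc k = k ^ (orderOf k + 1) := by rw [pow_succ, pow_orderOf_eq_one, one_mul]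
      _ = (k * k) ^ (m + 1) := by rw [← pow_two, ← pow_mul]; congr 1; omega
  have hfy : Commute (k * k) y := mul_inv_eq_iff_eq_mul.1 (hcen y hy)
  have : Commute k y := hk' ▸ hfy.pow_left (m + 1)
  rw [this.eq, mul_inv_cancel_right, inv_mul_cancel]
  exact one_mem _

/-- The rank is at most two. -/
theorem pRankLE_two : Cfsg.PRankLE 2 2 Q := by
  haveI : Fact (Nat.Prime 2) := ⟨Nat.prime_two⟩
  have hc : ∀ {p q : Q}, p ∈ (T : Subgroup Q) → q ∈ (T : Subgroup Q) → p * q = q * p := fun hp hq =>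
    congrArg Subtype.val (hT.1.comm ⟨_, hp⟩ ⟨_, hq⟩)
  -- no fixed points
  have hfree : ∀ t ∈ (T : Subgroup Q), (∀ a ∈ A, a * t * a⁻¹ = t) → t = 1 := by
    intro t ht hfix
    rcases trivial_or_free hQ hT hA hAodd hsup (K := A) le_rfl
      (fun a ha k hk => mul_mem (mul_mem ha hk) (inv_mem ha)) with h | h
    · exfalso
      obtain ⟨a, ha, s, hs, hns⟩ := hmove
      have h1 : ⁅s, a⁆ ∈ ⁅(T : Subgroup Q), A⁆ := commutator_mem_commutator hs ha
      rw [h, mem_bot, commutatorElement_eq_one_iff_mul_comm] at h1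
      rw [← h1, mul_inv_cancel_right, inv_mul_cancel] at hns
      exact hns (one_mem _)
    · have : t ∈ (T : Subgroup Q) ⊓ centralizer (A : Set Q) :=
        ⟨ht, mem_centralizer_iff.2 fun a ha => mul_inv_eq_iff_eq_mul.1 (hfix a ha)⟩
      rwa [h, mem_bot] at this
  obtain ⟨a, ha, s, hs, hns⟩ := hmove
  have hmove' : ∃ a ∈ A, ∃ t ∈ (T : Subgroup Q), t⁻¹ * (a * t * a⁻¹) ∉ Zb := ⟨a, ha, s, hs, hns⟩
  obtain ⟨x, hx, -, -, hxZ, -, -⟩ := id hind
  have hfix := fun {k x : Q} hk hx hxZ h =>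
    trivial_of_fix hQ hT hA hAodd hsup hZT hZi hcover hsq hind hmove' (k := k) (x := x) hk hx hxZ h
  have hcen := fun {k : Q} hk h =>
    centralise_of_trivial hQ hT hA hAodd hsup hZT hZi hcover hsq hind hmove' (k := k) hk h
  have hna : ¬ ∀ t ∈ (T : Subgroup Q), a * t * a⁻¹ = t := fun h => hns (by simp [h s hs])
  have hna2 : ¬ ∀ t ∈ (T : Subgroup Q), a * a * t * (a * a)⁻¹ = t := by
    intro h
    obtain ⟨m, hm⟩ : Odd (orderOf a) := hAodd.of_dvd_nat (by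
      rw [← Subgroup.orderOf_mk _ ha]; exact orderOf_dvd_natCard _)
    have hk' : a = (a * a) ^ (m + 1) := by
      calc a = a ^ (orderOf a + 1) := by rw [pow_succ, pow_orderOf_eq_one, one_mul]
        _ = (a * a) ^ (m + 1) := by rw [← pow_two, ← pow_mul]; congr 1; omega
    refine hna fun t ht => ?_
    have : Commute a t := hk' ▸ (show Commute (a * a) t from mul_inv_eq_iff_eq_mul.1 (h t ht)).pow_left (m + 1)
    rw [this.eq, mul_inv_cancel_right]
  have haN := hA ha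
  have hx2 := Coprime.conj_mem haN hx
  have hx3 := Coprime.conj_mem (mul_mem haN haN) hx
  have hx2Z : a * x * a⁻¹ ∉ Zb := fun e => hxZ (by
    have := hZi a⁻¹ (inv_mem haN) _ e
    rwa [show a⁻¹ * (a * x * a⁻¹) * a⁻¹⁻¹ = x by group] at this)
  have h12 : x⁻¹ * (a * x * a⁻¹) ∉ Zb := fun e => hna (hcen ha (hfix ha hx hxZ e))
  have h13 : x⁻¹ * (a * a * x * (a * a)⁻¹) ∉ Zb := fun e =>
    hna2 (hcen (mul_mem ha ha) (hfix (mul_mem ha ha) hx hxZ e))
  -- every element acts on `T` as a power of `a`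
  have hpow : ∀ b ∈ A, ∀ t ∈ (T : Subgroup Q),
      b * t * b⁻¹ = t ∨ b * t * b⁻¹ = a * t * a⁻¹ ∨ b * t * b⁻¹ = a * a * t * (a * a)⁻¹ := by
    intro b hb t ht
    have hsame : ∀ g ∈ A, (g * x * g⁻¹)⁻¹ * (b * x * b⁻¹) ∈ Zb → b * t * b⁻¹ = g * t * g⁻¹ := by
      intro g hg e
      have hk : g⁻¹ * b ∈ A := mul_mem (inv_mem hg) hb
      have e' : x⁻¹ * ((g⁻¹ * b) * x * (g⁻¹ * b)⁻¹) ∈ Zb := by
        have := hZi g⁻¹ (inv_mem (hA hg)) _ e
        rwa [show g⁻¹ * ((g * x * g⁻¹)⁻¹ * (b * x * b⁻¹)) * g⁻¹⁻¹ = x⁻¹ * ((g⁻¹ * b) * x * (g⁻¹ * b)⁻¹) by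
          group] at this
      have h1 := hcen hk (hfix hk hx hxZ e') t ht
      calc b * t * b⁻¹ = g * ((g⁻¹ * b) * t * (g⁻¹ * b)⁻¹) * g⁻¹ := by group
        _ = g * t * g⁻¹ := by rw [h1]
    have hx3Z : a * a * x * (a * a)⁻¹ ∉ Zb := fun e => hxZ (by
      have := hZi (a * a)⁻¹ (inv_mem (mul_mem haN haN)) _ e
      rwa [show (a * a)⁻¹ * (a * a * x * (a * a)⁻¹) * (a * a)⁻¹⁻¹ = x by group] at this)
    have h23 : (a * x * a⁻¹)⁻¹ * (a * a * x * (a * a)⁻¹) ∉ Zb := fun e => h12 (by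
      have := hZi a⁻¹ (inv_mem haN) _ e
      rwa [show a⁻¹ * ((a * x * a⁻¹)⁻¹ * (a * a * x * (a * a)⁻¹)) * a⁻¹⁻¹ = x⁻¹ * (a * x * a⁻¹) by
        group] at this)
    have hbx := Coprime.conj_mem (hA hb) hx
    have hprod : (x * (a * x * a⁻¹))⁻¹ * (a * a * x * (a * a)⁻¹) ∈ Zb :=
      ((hcover x hx _ hx2 hxZ hx2Z h12 _ hx3).resolve_left hx3Z).resolve_left h13 |>.resolve_left h23
    rcases hcover x hx _ hx2 hxZ hx2Z h12 _ hbx with e | e | e | e
    · exfalso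
      have := hZi b⁻¹ (inv_mem (hA hb)) _ e
      rw [show b⁻¹ * (b * x * b⁻¹) * b⁻¹⁻¹ = x by group] at this
      exact hxZ this
    · left
      have := hsame 1 (one_mem _) (by simpa using e)
      simpa using this
    · exact Or.inr (Or.inl (hsame a ha e))
    · refine Or.inr (Or.inr (hsame (a * a) (mul_mem ha ha) ?_))
      have := mul_mem (inv_mem hprod) e
      rwa [show ((x * (a * x * a⁻¹))⁻¹ * (a * a * x * (a * a)⁻¹))⁻¹ * ((x * (a * x * a⁻¹))⁻¹ * (b * x * b⁻¹)) =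
        (a * a * x * (a * a)⁻¹)⁻¹ * (b * x * b⁻¹) by group] at this
  have hbt : ∀ b ∈ A, ∀ {u : Q}, u ∈ (T : Subgroup Q) → ∀ {g : Q}, g ∈ A →
      b * (g * u * g⁻¹) * b⁻¹ = u ∨ b * (g * u * g⁻¹) * b⁻¹ = a * u * a⁻¹ ∨
        b * (g * u * g⁻¹) * b⁻¹ = a * a * u * (a * a)⁻¹ := fun b hb u hu g hg => by
    rw [show b * (g * u * g⁻¹) * b⁻¹ = b * g * u * (b * g)⁻¹ by group]
    exact hpow _ (mul_mem hb hg) u hu
  -- an involution and its conjugates form an invariant four group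
  have hfour : ∀ t ∈ (T : Subgroup Q), t * t = 1 → t ≠ 1 → ∃ U : Subgroup Q, U ≤ (T : Subgroup Q) ∧
      (U : Set Q) = {1, t, a * t * a⁻¹, a * a * t * (a * a)⁻¹} ∧
      ∀ g ∈ normalizer ((T : Subgroup Q) : Set Q), ∀ u ∈ U, g * u * g⁻¹ ∈ U := by
    intro t ht htt ht1
    set p := a * t * a⁻¹ with hp
    set q := a * a * t * (a * a)⁻¹ with hq
    have hpT : p ∈ (T : Subgroup Q) := Coprime.conj_mem haN ht
    have hqT : q ∈ (T : Subgroup Q) := Coprime.conj_mem (mul_mem haN haN) ht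
    have hpp : p * p = 1 := by rw [hp, conj_mul, htt, mul_one, mul_inv_cancel]
    have hqq : q * q = 1 := by rw [hq, conj_mul, htt, mul_one, mul_inv_cancel]
    have htp : t ≠ p := by
      intro e
      refine ht1 (hfree t ht fun b hb => ?_)
      have e2 : q = t := by
        rw [hq, show a * a * t * (a * a)⁻¹ = a * (a * t * a⁻¹) * a⁻¹ by group, ← hp, ← e]
        exact hp ▸ e.symm
      rcases hpow b hb t ht with f | f | f
      exacts [f, f.trans e.symm, f.trans e2]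
    have hpq : p ≠ q := fun e => htp (by
      have h' := congrArg (fun v => a⁻¹ * v * a) e
      simp only [hp, hq] at h'
      group at h'
      rw [hp]; group
      exact h')
    have htq : t ≠ q := by
      intro e
      refine htp ?_
      obtain ⟨m, hm⟩ : Odd (orderOf a) := hAodd.of_dvd_nat (by
        rw [← Subgroup.orderOf_mk _ ha]; exact orderOf_dvd_natCard _)
      have hk' : a = (a * a) ^ (m + 1) := by
        calc a = a ^ (orderOf a + 1) := by rw [pow_succ, pow_orderOf_eq_one, one_mul]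
          _ = (a * a) ^ (m + 1) := by rw [← pow_two, ← pow_mul]; congr 1; omega
      have h1 : Commute (a * a) t := mul_inv_eq_iff_eq_mul.1 e.symm
      have h2 : Commute a t := hk' ▸ h1.pow_left (m + 1)
      rw [hp, h2.eq, mul_inv_cancel_right]
    have hperm : ∀ b ∈ A, b * (t * p * q) * b⁻¹ = t * p * q := by
      intro b hb
      have r1 := hpow b hb t ht
      rw [← hp, ← hq] at r1
      have r2 := hbt b hb ht ha
      rw [← hp, ← hq] at r2
      have r3 := hbt b hb ht (mul_mem ha ha)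
      rw [← hp, ← hq] at r3
      have n12 : b * t * b⁻¹ ≠ b * p * b⁻¹ := fun e => htp (by simpa using e)
      have n13 : b * t * b⁻¹ ≠ b * q * b⁻¹ := fun e => htq (by simpa using e)
      have n23 : b * p * b⁻¹ ≠ b * q * b⁻¹ := fun e => hpq (by simpa using e)
      rw [← conj_mul, ← conj_mul]
      have e1 : p * t * q = t * p * q := by rw [hc hpT ht]
      have e2 : t * q * p = t * p * q := by rw [mul_assoc, hc hqT hpT, ← mul_assoc]
      have e3 : p * q * t = t * p * q := by rw [hc (mul_mem hpT hqT) ht, ← mul_assoc]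
      have e4 : q * t * p = t * p * q := by rw [mul_assoc, hc hqT (mul_mem ht hpT)]
      have e5 : q * p * t = t * p * q := by rw [mul_assoc, hc hqT (mul_mem hpT ht), e1]
      rcases r1 with f | f | f <;> rcases r2 with g | g | g <;> rcases r3 with h | h | h <;>
        first
        | exact absurd (f.trans g.symm) n12
        | exact absurd (f.trans h.symm) n13
        | exact absurd (g.trans h.symm) n23
        | (rw [f, g, h]; done)
        | (rw [f, g, h]; first | exact e1 | exact e2 | exact e3 | exact e4 | exact e5)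
    have hone := hfree _ (mul_mem (mul_mem ht hpT) hqT) hperm
    have htpq : t * p = q := by rw [← mul_inv_eq_one, inv_eq_of_mul_eq_one_right hqq, hone]
    have hpqt : p * q = t := by
      rw [← htpq, ← mul_assoc, hc hpT ht, mul_assoc, hpp, mul_one]
    have htq' : t * q = p := by rw [← htpq, ← mul_assoc, htt, one_mul]
    let U : Subgroup Q :=
      { carrier := {1, t, p, q}
        one_mem' := Or.inl rfl
        mul_mem' := fun {u v} hu hv => by
          rcases hu with rfl | rfl | rfl | rfl <;> rcases hv with rfl | rfl | rfl | rfl <;>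
            simp [htt, hpp, hqq, htpq, hpqt, htq', hc hpT ht, hc hqT ht, hc hqT hpT]
        inv_mem' := fun {u} hu => by
          rcases hu with rfl | rfl | rfl | rfl
          · simp
          · rw [inv_eq_of_mul_eq_one_right htt]; simp
          · rw [inv_eq_of_mul_eq_one_right hpp]; simp
          · rw [inv_eq_of_mul_eq_one_right hqq]; simp }
    have hUT : U ≤ (T : Subgroup Q) := by
      rintro u (rfl | rfl | rfl | rfl)
      exacts [one_mem _, ht, hpT, hqT]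
    refine ⟨U, hUT, rfl, invariant_of_complement hQ hT hA hAodd hsup hUT ?_⟩
    rintro b hb u (rfl | rfl | rfl | rfl)
    · simp
    · exact Or.inr (hpow b hb u ht)
    · exact Or.inr (hbt b hb ht ha)
    · exact Or.inr (hbt b hb ht (mul_mem ha ha))
  by_contra hrank
  obtain ⟨E, hET, hE, hE8⟩ := H70.Balanced.exists_eight hrank T
  have hsqE : ∀ e ∈ E, e * e = 1 := fun e he => by rw [← pow_two]; exact hE.2 e he
  obtain ⟨e₁, he₁, he₁1⟩ : ∃ e ∈ E, e ≠ 1 := by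
    by_contra! h
    have : Nat.card ↥E ≤ 1 := by
      rw [(eq_bot_iff.2 fun e he => mem_bot.2 (h e he) : E = ⊥)]
      simp
    omega
  obtain ⟨U₁, hU₁T, hU₁, hU₁i⟩ := hfour e₁ (hET he₁) (hsqE e₁ he₁) he₁1
  obtain ⟨e₂, he₂, he₂U⟩ : ∃ e ∈ E, e ∉ U₁ := by
    by_contra! h
    have h1 : Nat.card ↥E ≤ Nat.card ↥U₁ := card_le_of_le h
    have h2 : Nat.card ↥U₁ ≤ 4 := by
      rw [← SetLike.coe_sort_coe, Nat.card_coe_set_eq, hU₁]
      refine (Set.ncard_insert_le _ _).trans ?_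
      refine Nat.add_le_add_right ((Set.ncard_insert_le _ _).trans ?_) 1
      exact Nat.add_le_add_right ((Set.ncard_insert_le _ _).trans (by simp)) 1
    omega
  obtain ⟨U₂, hU₂T, hU₂, hU₂i⟩ := hfour e₂ (hET he₂) (hsqE e₂ he₂) fun e => he₂U (e ▸ one_mem _)
  have hm₁ : e₁ ∈ U₁ := by rw [← SetLike.mem_coe, hU₁]; simp
  have hm₂ : e₂ ∈ U₂ := by rw [← SetLike.mem_coe, hU₂]; simp
  have hd : U₁ ⊓ U₂ = ⊥ := by
    refine eq_bot_iff.2 fun u hu => mem_bot.2 ?_
    by_contra hu1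
    refine he₂U ?_
    have h2 : u ∈ ({1, e₂, a * e₂ * a⁻¹, a * a * e₂ * (a * a)⁻¹} : Set Q) := hU₂ ▸ hu.2
    have hback : ∀ g : Q, g ∈ normalizer ((T : Subgroup Q) : Set Q) → g * e₂ * g⁻¹ = u → e₂ ∈ U₁ := by
      intro g hg e
      have := hU₁i g⁻¹ (inv_mem hg) u hu.1
      rwa [← e, show g⁻¹ * (g * e₂ * g⁻¹) * g⁻¹⁻¹ = e₂ by group] at this
    rcases h2 with f | f | f | f
    · exact absurd f hu1
    · exact f ▸ hu.1
    · exact hback a haN f.symm
    · exact hback (a * a) (mul_mem haN haN) f.symm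
  rcases invariant_disjoint hQ hT hU₁T hU₂T hU₁i hU₂i hd with f | f
  · exact he₁1 (mem_bot.1 (f ▸ hm₁))
  · exact he₂U (by rw [(mem_bot.1 (f ▸ hm₂) : e₂ = 1)]; exact one_mem _)

end Cfsg.Agent.H4.CentIndexFour
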