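import Cfsg.Agent.H4.CentIndexFour.Quasi
import Cfsg.Agent.H52.Commuting.Product
import Cfsg.Agent.S0206

/-!
# Centre of index four: the fused case

If some abelian maximal subgroup of `P` is fused, exactly two are, `P = D × W` with `D` dihedral of
order eight, both factors are strongly closed, and `W` is trivial in a quasisimple group.
-/

set_option autoImplicit false
set_option linter.unusedSectionVars false
set_option linter.style.haveILetI false

namespace Cfsg.Agent.H4.CentIndexFour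

open Subgroup
open scoped commutatorElement

variable {G : Type*} [Group G] [Finite G] {P : Sylow 2 G} {c : G} (S : Setup (P : Subgroup G) c)
include S

theorem Setup.cs_eq' {x u : G} (hx : x ∈ (P : Subgroup G)) (hxZ : x ∉ ZP (P : Subgroup G))
    (hu : u ∈ cs (P : Subgroup G) x) (huZ : u ∉ ZP (P : Subgroup G)) :
    cs (P : Subgroup G) u = cs (P : Subgroup G) x :=
  S.idx.cs_eq hx hxZ hu huZ

/-- The data of a fused subgroup, indexed by its involution. -/
theorem Setup.fused_gen {x : G} (hx : x ∈ (P : Subgroup G)) (hxZ : x ∉ ZP (P : Subgroup G))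
    (hf : Fused c (cs (P : Subgroup G) x)) :
    ∃ t W, t ∈ (P : Subgroup G) ∧ cs (P : Subgroup G) t = cs (P : Subgroup G) x ∧
      FusedData (P : Subgroup G) c (cs (P : Subgroup G) t) t W := by
  obtain ⟨y, hy, hyR⟩ := S.idx.exists_not_mem_cs hx hxZ
  obtain ⟨t, W, h⟩ := S.fusedData hx hxZ hy hyR hf
  have e := S.cs_eq' hx hxZ h.memR h.notZ
  exact ⟨t, W, cs_le _ x h.memR, e, e.symm ▸ h⟩

/-- One fused subgroup is impossible in a perfect group. -/
theorem Setup.exists_second (hperf : commutator G = ⊤) {x : G} (hx : x ∈ (P : Subgroup G))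
    (hxZ : x ∉ ZP (P : Subgroup G)) (hf : Fused c (cs (P : Subgroup G) x)) :
    ∃ u ∈ (P : Subgroup G), u ∉ ZP (P : Subgroup G) ∧ Fused c (cs (P : Subgroup G) u) ∧
      cs (P : Subgroup G) u ≠ cs (P : Subgroup G) x := by
  by_contra! hone
  set R := cs (P : Subgroup G) x with hR
  obtain ⟨y, hy, hyR⟩ := S.idx.exists_not_mem_cs hx hxZ
  have hxR : x ∈ R := mem_cs.2 ⟨hx, Commute.refl x⟩
  have hN : ∀ n ∈ normalizer ((P : Subgroup G) : Set G), ∀ b ∈ (P : Subgroup G),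
      b⁻¹ * (n * b * n⁻¹) ∈ R := by
    intro n hn b hb
    have hx' := conj_mem_of_normalizer hn hx
    have hxZ' : n * x * n⁻¹ ∉ ZP (P : Subgroup G) := fun e => hxZ (by
      have := conj_mem_ZP (inv_mem hn) e
      rwa [show n⁻¹ * (n * x * n⁻¹) * n⁻¹⁻¹ = x by group] at this)
    have hnR := normalizer_cs_of_eq hn (hone _ hx' hxZ' (S.fused_conj hn hf))
    by_cases hbR : b ∈ R
    · exact mul_mem (inv_mem hbR) (conj_mem_of_normalizer hnR hbR)
    · refine S.inv_mul_mem_cs hx hxZ hb hbR (conj_mem_of_normalizer hn hb) fun e => hbR ?_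
      have := conj_mem_of_normalizer (inv_mem hnR) e
      rwa [show n⁻¹ * (n * b * n⁻¹) * n⁻¹⁻¹ = b by group] at this
  have hle := S.le_of_perfect hperf (S.focal_le R hN fun u hu huZ k hk b hb => by
    by_cases hfu : Fused c (cs (P : Subgroup G) u)
    · rw [hone u hu huZ hfu] at hb hk
      exact mul_mem (inv_mem hb) (conj_mem_of_normalizer hk hb)
    · obtain ⟨v, hv, hvR⟩ := S.idx.exists_not_mem_cs hu huZ
      obtain ⟨n, hn, hact⟩ := S.act_of_unfused hu huZ hv hvR hfu hk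
      rw [hact b hb]
      exact hN n hn b (cs_le _ u hb))
  exact hyR (hle hy)

section Two

variable {t₁ t₂ : G} {W₁ W₂ : Subgroup G}
  (h₁ : FusedData (P : Subgroup G) c (cs (P : Subgroup G) t₁) t₁ W₁)
  (h₂ : FusedData (P : Subgroup G) c (cs (P : Subgroup G) t₂) t₂ W₂)
  (hne : cs (P : Subgroup G) t₂ ≠ cs (P : Subgroup G) t₁)
include h₁ h₂ hne

theorem Setup.t_mem : t₁ ∈ (P : Subgroup G) ∧ t₂ ∈ (P : Subgroup G) ∧
    t₂ ∉ cs (P : Subgroup G) t₁ ∧ t₁⁻¹ * t₂ ∉ ZP (P : Subgroup G) ∧ t₁ * t₂ * t₁⁻¹ = c * t₂ := by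
  have m₁ := cs_le _ _ h₁.memR
  have m₂ := cs_le _ _ h₂.memR
  have h21 : t₂ ∉ cs (P : Subgroup G) t₁ := fun e => hne (S.cs_eq' m₁ h₁.notZ e h₂.notZ)
  exact ⟨m₁, m₂, h21, fun e => h21 ((S.idx.mem_cs_iff m₁ h₁.notZ).2 (Or.inr e)),
    S.moves t₁ m₁ t₂ m₂ h₁.notZ h21⟩

theorem Setup.prod_sq : t₁ * t₂ * (t₁ * t₂) = c := by
  obtain ⟨m₁, m₂, h21, hZ, hc⟩ := S.t_mem h₁ h₂ hne
  have e1 : t₁⁻¹ = t₁ := inv_eq_of_mul_eq_one_right h₁.sq
  rw [e1] at hc
  calc t₁ * t₂ * (t₁ * t₂) = t₁ * t₂ * t₁ * t₂ := by group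
    _ = c := by rw [hc, mul_assoc, h₂.sq, mul_one]

theorem Setup.not_third {x : G} (hx : x ∈ (P : Subgroup G)) (hxZ : x ∉ ZP (P : Subgroup G))
    (hf : Fused c (cs (P : Subgroup G) x)) :
    cs (P : Subgroup G) x = cs (P : Subgroup G) t₁ ∨ cs (P : Subgroup G) x = cs (P : Subgroup G) t₂ := by
  by_contra! hno
  obtain ⟨m₁, m₂, h21, hZ, -⟩ := S.t_mem h₁ h₂ hne
  obtain ⟨t, W, htP, hte, ht⟩ := S.fused_gen hx hxZ hf
  rw [← hte] at hno
  rcases S.idx.cover m₁ m₂ h₁.notZ h₂.notZ hZ htP with e | e | e | e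
  · exact ht.notZ e
  · exact hno.1 (S.cs_eq' m₁ h₁.notZ ((S.idx.mem_cs_iff m₁ h₁.notZ).2 (Or.inr e)) ht.notZ)
  · exact hno.2 (S.cs_eq' m₂ h₂.notZ ((S.idx.mem_cs_iff m₂ h₂.notZ).2 (Or.inr e)) ht.notZ)
  · set z := (t₁ * t₂)⁻¹ * t with hz
    clear_value z
    have hzc : z * z = c := by
      have ht' : t = t₁ * t₂ * z := by rw [hz, mul_inv_cancel_left]
      have h : 1 = c * (z * z) := by
        calc (1 : G) = t * t := ht.sq.symm
          _ = t₁ * t₂ * (z * (t₁ * t₂)) * z := by rw [ht']; group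
          _ = t₁ * t₂ * (t₁ * t₂ * z) * z := by rw [(commute_ZP e (mul_mem m₁ m₂)).eq]
          _ = (t₁ * t₂ * (t₁ * t₂)) * (z * z) := by group
          _ = c * (z * z) := by rw [S.prod_sq h₁ h₂ hne]
      calc z * z = c * (c * (z * z)) := by rw [← mul_assoc, S.sq, one_mul]
        _ = c := by rw [← h, mul_one]
    rcases h₁.split z e with hw | hw
    · exact h₁.notW (hzc ▸ mul_mem hw hw)
    · refine h₁.notW ?_
      have := mul_mem hw hw
      rwa [show c * z * (c * z) = c * c * (z * z) by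
        rw [mul_assoc c z, ← mul_assoc z c z, (commute_ZP e (ZP_le _ S.mem)).eq]; group,
        S.sq, one_mul, hzc] at this

/-- `N(P)` normalises both fused subgroups. -/
theorem Setup.fix_both {n : G} (hn : n ∈ normalizer ((P : Subgroup G) : Set G)) :
    n ∈ normalizer (cs (P : Subgroup G) t₁ : Set G) ∧ n ∈ normalizer (cs (P : Subgroup G) t₂ : Set G) := by
  obtain ⟨m₁, m₂, -⟩ := S.t_mem h₁ h₂ hne
  have hf₁ : ∀ {s : G}, s ∈ (P : Subgroup G) → ∀ {W : Subgroup G},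
      FusedData (P : Subgroup G) c (cs (P : Subgroup G) s) s W →
      cs (P : Subgroup G) (n * s * n⁻¹) = cs (P : Subgroup G) t₁ ∨
        cs (P : Subgroup G) (n * s * n⁻¹) = cs (P : Subgroup G) t₂ := by
    intro s hs W hW
    refine S.not_third h₁ h₂ hne (conj_mem_of_normalizer hn hs) (fun e => hW.notZ ?_)
      (S.fused_conj hn hW.fused)
    have := conj_mem_ZP (inv_mem hn) e
    rwa [show n⁻¹ * (n * s * n⁻¹) * n⁻¹⁻¹ = s by group] at this
  have hn1 : cs (P : Subgroup G) (n * t₁ * n⁻¹) = cs (P : Subgroup G) t₁ := by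
    by_contra hsw
    have h12 := (hf₁ m₁ h₁).resolve_left hsw
    have h21 : cs (P : Subgroup G) (n * t₂ * n⁻¹) = cs (P : Subgroup G) t₁ :=
      (hf₁ m₂ h₂).resolve_right fun e => hne ((cs_conj_congr hn).1 (e.trans h12.symm))
    have heven : ∀ i : ℕ, cs (P : Subgroup G) (n ^ (2 * i + 1) * t₁ * (n ^ (2 * i + 1))⁻¹) =
        cs (P : Subgroup G) t₂ := by
      intro i
      induction i with
      | zero => simpa using h12
      | succ i ih =>
        have e1 := ((cs_conj_congr hn).2 ih).trans h21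
        have e2 := ((cs_conj_congr hn).2 e1).trans h12
        rw [show n ^ (2 * (i + 1) + 1) = n * (n * n ^ (2 * i + 1)) by
          rw [← pow_succ', ← pow_succ']; rfl]
        rw [← e2]
        congr 1
        group
    obtain ⟨m, ⟨i, rfl⟩, hm⟩ := exists_odd_pow_mem hn
    refine hne ((heven i).symm.trans ?_)
    refine S.cs_eq' m₁ h₁.notZ (S.conj_mem_cs m₁ hm (mem_cs.2 ⟨m₁, Commute.refl t₁⟩)) fun e => h₁.notZ ?_
    have := conj_mem_ZP (le_normalizer (inv_mem hm)) e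
    rwa [show (n ^ (2 * i + 1))⁻¹ * (n ^ (2 * i + 1) * t₁ * (n ^ (2 * i + 1))⁻¹) *
      (n ^ (2 * i + 1))⁻¹⁻¹ = t₁ by group] at this
  exact ⟨normalizer_cs_of_eq hn hn1, normalizer_cs_of_eq hn
    ((hf₁ m₂ h₂).resolve_left fun e => hne ((cs_conj_congr hn).1 (e.trans hn1.symm)))⟩

end Two

end Cfsg.Agent.H4.CentIndexFour
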