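import Cfsg.Agent.H4.CentIndexFour.Fused

/-!
# Centre of index four, two fused subgroups: `P` is dihedral of order eight

`P = ⟨t₁, t₂⟩ × W` by the focal subgroup theorem; both factors are strongly closed, so `W` is
central in `G`, hence trivial by transfer.
-/

set_option autoImplicit false
set_option linter.unusedSectionVars false
set_option linter.style.haveILetI false

namespace Cfsg.Agent.H4.CentIndexFour

open Subgroup
open scoped commutatorElement

variable {G : Type*} [Group G] [Finite G] {P : Sylow 2 G} {c : G} (S : Setup (P : Subgroup G) c)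
  {t₁ t₂ : G} {W₁ W₂ : Subgroup G}
  (h₁ : FusedData (P : Subgroup G) c (cs (P : Subgroup G) t₁) t₁ W₁)
  (h₂ : FusedData (P : Subgroup G) c (cs (P : Subgroup G) t₂) t₂ W₂)
  (hne : cs (P : Subgroup G) t₂ ≠ cs (P : Subgroup G) t₁)
include S h₁ h₂ hne

theorem Setup.c_mem_D : c ∈ closure ({t₁, t₂} : Set G) := by
  rw [← S.prod_sq h₁ h₂ hne]
  have := mul_mem (subset_closure (Or.inl rfl) : t₁ ∈ closure ({t₁, t₂} : Set G))
    (subset_closure (Or.inr rfl) : t₂ ∈ closure ({t₁, t₂} : Set G))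
  exact mul_mem this this

theorem Setup.D_le : closure ({t₁, t₂} : Set G) ≤ (P : Subgroup G) := by
  obtain ⟨m₁, m₂, -⟩ := S.t_mem h₁ h₂ hne
  exact (closure_le _).2 (by rintro u (rfl | rfl) <;> assumption)

theorem Setup.D_elem {d : G} (hd : d ∈ closure ({t₁, t₂} : Set G)) :
    ∃ e, (e = 1 ∨ e = t₁ ∨ e = t₂ ∨ e = t₁ * t₂) ∧ (d = e ∨ d = e * c) := by
  obtain ⟨m₁, m₂, -, -, hc⟩ := S.t_mem h₁ h₂ hne
  have hcP := ZP_le _ S.mem
  have hca : ∀ {a : G}, a ∈ (P : Subgroup G) → c * a = a * c := fun ha => (commute_ZP S.mem ha).eq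
  have hcd : ∀ e : G, e = 1 ∨ e = t₁ ∨ e = t₂ ∨ e = t₁ * t₂ → ∀ u ∈ ({t₁, t₂} : Set G),
      ∃ e', (e' = 1 ∨ e' = t₁ ∨ e' = t₂ ∨ e' = t₁ * t₂) ∧ (e * u = e' ∨ e * u = e' * c) := by
    have e1 : t₁⁻¹ = t₁ := inv_eq_of_mul_eq_one_right h₁.sq
    rw [e1] at hc
    have h21 : t₂ * t₁ = t₁ * t₂ * c := by
      calc t₂ * t₁ = t₁ * (t₁ * t₂ * t₁) := by simp only [← mul_assoc, h₁.sq, one_mul]
        _ = t₁ * t₂ * c := by rw [hc, hca m₂, mul_assoc]
    rintro e (rfl | rfl | rfl | rfl) u (rfl | rfl)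
    · exact ⟨u, Or.inr (Or.inl rfl), Or.inl (one_mul u)⟩
    · exact ⟨u, Or.inr (Or.inr (Or.inl rfl)), Or.inl (one_mul u)⟩
    · exact ⟨1, Or.inl rfl, Or.inl h₁.sq⟩
    · exact ⟨_, Or.inr (Or.inr (Or.inr rfl)), Or.inl rfl⟩
    · exact ⟨_, Or.inr (Or.inr (Or.inr rfl)), Or.inr h21⟩
    · exact ⟨1, Or.inl rfl, Or.inl h₂.sq⟩
    · exact ⟨t₂, Or.inr (Or.inr (Or.inl rfl)), Or.inr (by rw [hc, hca m₂])⟩
    · exact ⟨t₁, Or.inr (Or.inl rfl), Or.inl (by rw [mul_assoc, h₂.sq, mul_one])⟩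
  induction hd using closure_induction_right with
  | one => exact ⟨1, Or.inl rfl, Or.inl rfl⟩
  | mul_right x hx u hu ih =>
    obtain ⟨e, he, hx'⟩ := ih
    have huP : u ∈ (P : Subgroup G) := by rcases hu with rfl | rfl <;> assumption
    obtain ⟨e', he', hu'⟩ := hcd e he u hu
    refine ⟨e', he', ?_⟩
    rcases hx' with rfl | rfl
    · exact hu'
    · rw [mul_assoc e c u, hca huP, ← mul_assoc]
      rcases hu' with f | f <;> rw [f]
      · exact Or.inr rfl
      · exact Or.inl (by rw [mul_assoc, S.sq, mul_one])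
  | mul_inv_cancel x hx u hu ih =>
    obtain ⟨e, he, hx'⟩ := ih
    have huP : u ∈ (P : Subgroup G) := by rcases hu with rfl | rfl <;> assumption
    have hui : u⁻¹ = u := by
      rcases hu with rfl | rfl
      · exact inv_eq_of_mul_eq_one_right h₁.sq
      · exact inv_eq_of_mul_eq_one_right h₂.sq
    rw [hui]
    obtain ⟨e', he', hu'⟩ := hcd e he u hu
    refine ⟨e', he', ?_⟩
    rcases hx' with rfl | rfl
    · exact hu'
    · rw [mul_assoc e c u, hca huP, ← mul_assoc]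
      rcases hu' with f | f <;> rw [f]
      · exact Or.inr rfl
      · exact Or.inl (by rw [mul_assoc, S.sq, mul_one])

theorem Setup.D_inter_cs {d : G} (hd : d ∈ closure ({t₁, t₂} : Set G))
    (hR : d ∈ cs (P : Subgroup G) t₁) : d = 1 ∨ d = c ∨ d = t₁ ∨ d = t₁ * c := by
  obtain ⟨m₁, m₂, h21, -⟩ := S.t_mem h₁ h₂ hne
  obtain ⟨e, he, hde⟩ := S.D_elem h₁ h₂ hne hd
  have hc1 := S.idx.ZP_le_cs m₁ S.mem
  have heR : e ∈ cs (P : Subgroup G) t₁ := by
    rcases hde with rfl | rfl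
    · exact hR
    · simpa [mul_assoc] using mul_mem hR (inv_mem hc1)
  rcases he with rfl | rfl | rfl | rfl
  · rcases hde with rfl | rfl <;> simp
  · rcases hde with rfl | rfl <;> simp
  · exact absurd heR h21
  · exact absurd (by simpa using mul_mem (inv_mem h₁.memR) heR) h21

theorem Setup.D_inter_ZP {d : G} (hd : d ∈ closure ({t₁, t₂} : Set G))
    (hZ : d ∈ ZP (P : Subgroup G)) : d = 1 ∨ d = c := by
  obtain ⟨m₁, -⟩ := S.t_mem h₁ h₂ hne
  rcases S.D_inter_cs h₁ h₂ hne hd (S.idx.ZP_le_cs m₁ hZ) with e | e | e | e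
  · exact Or.inl e
  · exact Or.inr e
  · exact absurd (e ▸ hZ) h₁.notZ
  · exact absurd (by simpa [e, mul_assoc] using mul_mem hZ (inv_mem S.mem)) h₁.notZ

theorem Setup.P_le_H (hperf : commutator G = ⊤) :
    (P : Subgroup G) ≤ closure ({c, t₁, t₂} ∪ ((W₁ ⊓ W₂ : Subgroup G) : Set G)) := by
  obtain ⟨m₁, m₂, h21, hZ, -⟩ := S.t_mem h₁ h₂ hne
  set H := closure ({c, t₁, t₂} ∪ ((W₁ ⊓ W₂ : Subgroup G) : Set G)) with hH
  have gc : c ∈ H := subset_closure (Or.inl (Or.inl rfl))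
  have g1 : t₁ ∈ H := subset_closure (Or.inl (Or.inr (Or.inl rfl)))
  have g2 : t₂ ∈ H := subset_closure (Or.inl (Or.inr (Or.inr rfl)))
  have gW : ∀ w, w ∈ W₁ → w ∈ W₂ → w ∈ H := fun w a b => subset_closure (Or.inr ⟨a, b⟩)
  have hHP : H ≤ (P : Subgroup G) := (closure_le _).2 (by
    rintro u ((rfl | rfl | rfl) | hu)
    · exact ZP_le _ S.mem
    · exact m₁
    · exact m₂
    · exact ZP_le _ (h₁.le hu.1))
  have hnorm : ∀ p ∈ (P : Subgroup G), ∀ u ∈ H, p * u * p⁻¹ ∈ H := fun p hp u hu => by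
    rcases S.val p hp u (hHP hu) with e | e <;> rw [e]
    exacts [hu, mul_mem gc hu]
  -- products of good elements are good
  have hmul : ∀ k : G, ∀ b b' : G, b' ∈ (P : Subgroup G) →
      b⁻¹ * (k * b * k⁻¹) ∈ H → b'⁻¹ * (k * b' * k⁻¹) ∈ H →
      (b * b')⁻¹ * (k * (b * b') * k⁻¹) ∈ H := fun k b b' hb' e e' => by
    have := mul_mem (hnorm b'⁻¹ (inv_mem hb') _ e) e'
    rwa [show b'⁻¹ * (b⁻¹ * (k * b * k⁻¹)) * b'⁻¹⁻¹ * (b'⁻¹ * (k * b' * k⁻¹)) =
      (b * b')⁻¹ * (k * (b * b') * k⁻¹) by group] at this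
  have hconj : ∀ k b : G, b ∈ H → k * b * k⁻¹ ∈ H → b⁻¹ * (k * b * k⁻¹) ∈ H :=
    fun k b e e' => mul_mem (inv_mem e) e'
  have hgN : ∀ n ∈ normalizer ((P : Subgroup G) : Set G), ∀ b ∈ (P : Subgroup G),
      b⁻¹ * (n * b * n⁻¹) ∈ H := by
    intro n hn
    obtain ⟨hn₁, hn₂⟩ := S.fix_both h₁ h₂ hne hn
    have hnc := S.conj_c hn
    have hcn : c⁻¹ * (n * c * n⁻¹) ∈ H := by rw [hnc, inv_mul_cancel]; exact one_mem _
    have hW : ∀ {s : G} {W : Subgroup G}, s ∈ (P : Subgroup G) →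
        FusedData (P : Subgroup G) c (cs (P : Subgroup G) s) s W →
        n ∈ normalizer (cs (P : Subgroup G) s : Set G) → ∀ z ∈ ZP (P : Subgroup G),
        z⁻¹ * (n * z * n⁻¹) ∈ W := by
      intro s W _ hW hns z hz
      rcases hW.split z hz with e | e
      · exact mul_mem (inv_mem e) (hW.inv n hns z e)
      · have := mul_mem (inv_mem e) (hW.inv n hns _ e)
        rwa [← conj_mul, hnc, show (c * z)⁻¹ * (c * (n * z * n⁻¹)) = z⁻¹ * (n * z * n⁻¹) by group] at this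
    have hz : ∀ z ∈ ZP (P : Subgroup G), z⁻¹ * (n * z * n⁻¹) ∈ H := fun z hz =>
      gW _ (hW m₁ h₁ hn₁ z hz) (hW m₂ h₂ hn₂ z hz)
    have ht1 : t₁⁻¹ * (n * t₁ * n⁻¹) ∈ H := by
      refine hconj n t₁ g1 ?_
      rcases h₁.conj_t n hn₁ with e | e | e <;> rw [e]
      exacts [gc, g1, mul_mem gc g1]
    have ht2 : t₂⁻¹ * (n * t₂ * n⁻¹) ∈ H := by
      refine hconj n t₂ g2 ?_
      rcases h₂.conj_t n hn₂ with e | e | e <;> rw [e]
      exacts [gc, g2, mul_mem gc g2]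
    intro b hb
    rcases S.idx.cover m₁ m₂ h₁.notZ h₂.notZ hZ hb with e | e | e | e
    · exact hz b e
    · have := hmul n t₁ _ (ZP_le _ e) ht1 (hz _ e)
      rwa [mul_inv_cancel_left] at this
    · have := hmul n t₂ _ (ZP_le _ e) ht2 (hz _ e)
      rwa [mul_inv_cancel_left] at this
    · have := hmul n (t₁ * t₂) _ (ZP_le _ e) (hmul n t₁ t₂ m₂ ht1 ht2) (hz _ e)
      rwa [mul_inv_cancel_left] at this
  refine S.le_of_perfect hperf (S.focal_le H hgN fun x hx hxZ k hk b hb => ?_)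
  by_cases hf : Fused c (cs (P : Subgroup G) x)
  · -- the fused subgroups
    have key : ∀ {s : G} {W : Subgroup G}, s ∈ H →
        FusedData (P : Subgroup G) c (cs (P : Subgroup G) s) s W →
        k ∈ normalizer (cs (P : Subgroup G) s : Set G) → b ∈ cs (P : Subgroup G) s →
        b⁻¹ * (k * b * k⁻¹) ∈ H := by
      intro s W gs hW hks hbs
      have hsP := hHP gs
      have hkc : c⁻¹ * (k * c * k⁻¹) ∈ H := by
        refine hconj k c gc ?_
        rcases hW.conj_c k hks with e | e | e <;> rw [e]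
        exacts [gc, gs, mul_mem gc gs]
      have hks' : s⁻¹ * (k * s * k⁻¹) ∈ H := by
        refine hconj k s gs ?_
        rcases hW.conj_t k hks with e | e | e <;> rw [e]
        exacts [gc, gs, mul_mem gc gs]
      have hzW : ∀ z ∈ ZP (P : Subgroup G), z⁻¹ * (k * z * k⁻¹) ∈ H := by
        have hw : ∀ w ∈ W, w⁻¹ * (k * w * k⁻¹) ∈ H := by
          intro w hw
          obtain ⟨n, hn, hact⟩ := hW.act k hks
          rw [hact w hw]
          exact hgN n hn w (ZP_le _ (hW.le hw))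
        intro z hz
        rcases hW.split z hz with e | e
        · exact hw z e
        · have := hmul k c (c * z) (mul_mem (ZP_le _ S.mem) (ZP_le _ hz)) hkc (hw _ e)
          rwa [show c * (c * z) = z by rw [← mul_assoc, S.sq, one_mul]] at this
      rcases (S.idx.mem_cs_iff hsP hW.notZ).1 hbs with e | e
      · exact hzW b e
      · have := hmul k s _ (ZP_le _ e) hks' (hzW _ e)
        rwa [mul_inv_cancel_left] at this
    rcases S.not_third h₁ h₂ hne hx hxZ hf with e | e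
    · exact key g1 h₁ (e ▸ hk) (e ▸ hb)
    · exact key g2 h₂ (e ▸ hk) (e ▸ hb)
  · obtain ⟨v, hv, hvR⟩ := S.idx.exists_not_mem_cs hx hxZ
    obtain ⟨n, hn, hact⟩ := S.act_of_unfused hx hxZ hv hvR hf hk
    rw [hact b hb]
    exact hgN n hn b (cs_le _ x hb)

theorem Setup.decompose (hperf : commutator G = ⊤) {p : G} (hp : p ∈ (P : Subgroup G)) :
    ∃ d ∈ closure ({t₁, t₂} : Set G), ∃ w ∈ W₁ ⊓ W₂, p = d * w := by
  have hle : closure ({c, t₁, t₂} ∪ ((W₁ ⊓ W₂ : Subgroup G) : Set G)) ≤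
      (W₁ ⊓ W₂ : Subgroup G) ⊔ closure ({t₁, t₂} : Set G) := (closure_le _).2 (by
    rintro u ((rfl | rfl | rfl) | hu)
    · exact mem_sup_right (S.c_mem_D h₁ h₂ hne)
    · exact mem_sup_right (subset_closure (Or.inl rfl))
    · exact mem_sup_right (subset_closure (Or.inr rfl))
    · exact mem_sup_left hu)
  have hZ : ∀ w ∈ W₁ ⊓ W₂, w ∈ ZP (P : Subgroup G) := fun w hw => h₁.le hw.1
  have hN : closure ({t₁, t₂} : Set G) ≤ normalizer ((W₁ ⊓ W₂ : Subgroup G) : Set G) := by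
    intro d hd
    have hdP := S.D_le h₁ h₂ hne hd
    refine mem_normalizer_iff.2 fun u => ⟨fun hu => by rwa [S.fix_ZP (hZ u hu) hdP], fun hu => ?_⟩
    have := S.fix_ZP (hZ _ hu) (inv_mem hdP)
    rw [show d⁻¹ * (d * u * d⁻¹) * d⁻¹⁻¹ = u by group] at this
    rwa [this]
  obtain ⟨w, hw, d, hd, e⟩ := (Coprime.mem_sup_iff hN).1 (hle (S.P_le_H h₁ h₂ hne hperf hp))
  exact ⟨d, hd, w, hw, e ▸ (commute_ZP (hZ w hw) (S.D_le h₁ h₂ hne hd)).eq⟩

theorem Setup.W_eq (hperf : commutator G = ⊤) : W₁ = W₂ := by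
  have key : ∀ {W W' : Subgroup G}, W ≤ ZP (P : Subgroup G) → c ∉ W → W₁ ⊓ W₂ ≤ W →
      W₁ ⊓ W₂ ≤ W' → W ≤ W' := by
    intro W W' hle hcW hi hi' u hu
    obtain ⟨d, hd, w, hw, e⟩ := S.decompose h₁ h₂ hne hperf (ZP_le _ (hle hu))
    have hdW : d = u * w⁻¹ := by rw [e, mul_inv_cancel_right]
    have hdmem : d ∈ W := hdW ▸ mul_mem hu (inv_mem (hi hw))
    rcases S.D_inter_ZP h₁ h₂ hne hd (hle hdmem) with rfl | rfl
    · rw [e, one_mul]; exact hi' hw
    · exact absurd hdmem hcW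
  exact le_antisymm (key h₁.le h₁.notW inf_le_left inf_le_right)
    (key h₂.le h₂.notW inf_le_right inf_le_left)

theorem Setup.closed_W (hperf : commutator G = ⊤) :
    Cfsg.IsStronglyClosed W₁ (P : Subgroup G) := by
  refine ⟨fun w hw => ZP_le _ (h₁.le hw), fun w hw g hg => ?_⟩
  refine S.closed_of (W₁ : Set G) (fun n hn a ha _ => h₁.inv n (S.fix_both h₁ h₂ hne hn).1 a ha)
    (fun x hx hxZ k hk a ha haR => ?_) hw (ZP_le _ (h₁.le hw)) hg
  by_cases hf : Fused c (cs (P : Subgroup G) x)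
  · rcases S.not_third h₁ h₂ hne hx hxZ hf with e | e
    · exact h₁.inv k (e ▸ hk) a ha
    · rw [SetLike.mem_coe, S.W_eq h₁ h₂ hne hperf] at ha ⊢
      exact h₂.inv k (e ▸ hk) a ha
  · obtain ⟨v, hv, hvR⟩ := S.idx.exists_not_mem_cs hx hxZ
    obtain ⟨n, hn, hact⟩ := S.act_of_unfused hx hxZ hv hvR hf hk
    rw [hact a haR]
    exact h₁.inv n (S.fix_both h₁ h₂ hne hn).1 a ha

theorem Setup.closed_D : Cfsg.IsStronglyClosed (closure ({t₁, t₂} : Set G)) (P : Subgroup G) := by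
  set D := closure ({t₁, t₂} : Set G) with hD
  have gc := S.c_mem_D h₁ h₂ hne
  have g1 : t₁ ∈ D := subset_closure (Or.inl rfl)
  have g2 : t₂ ∈ D := subset_closure (Or.inr rfl)
  refine ⟨S.D_le h₁ h₂ hne, fun d hd g hg => ?_⟩
  have hmap : ∀ n ∈ normalizer ((P : Subgroup G) : Set G), ∀ a ∈ D, n * a * n⁻¹ ∈ D := by
    intro n hn a ha
    obtain ⟨hn₁, hn₂⟩ := S.fix_both h₁ h₂ hne hn
    induction ha using closure_induction with
    | mem u hu =>
      rcases hu with rfl | rfl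
      · rcases h₁.conj_t n hn₁ with e | e | e <;> rw [e]
        exacts [gc, g1, mul_mem gc g1]
      · rcases h₂.conj_t n hn₂ with e | e | e <;> rw [e]
        exacts [gc, g2, mul_mem gc g2]
    | one => simp
    | mul u v _ _ e e' => rw [← conj_mul]; exact mul_mem e e'
    | inv u _ e => rw [show n * u⁻¹ * n⁻¹ = (n * u * n⁻¹)⁻¹ by group]; exact inv_mem e
  refine S.closed_of (D : Set G) (fun n hn a ha _ => hmap n hn a ha)
    (fun x hx hxZ k hk a ha haR => ?_) hd (S.D_le h₁ h₂ hne hd) hg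
  by_cases hf : Fused c (cs (P : Subgroup G) x)
  · have hsymm : closure ({t₂, t₁} : Set G) = D := by rw [hD, Set.pair_comm]
    rcases S.not_third h₁ h₂ hne hx hxZ hf with e | e
    · rw [e] at hk haR
      have hc' : k * c * k⁻¹ ∈ D := by
        rcases h₁.conj_c k hk with f | f | f <;> rw [f]
        exacts [gc, g1, mul_mem gc g1]
      have ht' : k * t₁ * k⁻¹ ∈ D := by
        rcases h₁.conj_t k hk with f | f | f <;> rw [f]
        exacts [gc, g1, mul_mem gc g1]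
      rcases S.D_inter_cs h₁ h₂ hne ha haR with rfl | rfl | rfl | rfl
      · simp
      · exact hc'
      · exact ht'
      · rw [← conj_mul]; exact mul_mem ht' hc'
    · rw [e] at hk haR
      have hc' : k * c * k⁻¹ ∈ D := by
        rcases h₂.conj_c k hk with f | f | f <;> rw [f]
        exacts [gc, g2, mul_mem gc g2]
      have ht' : k * t₂ * k⁻¹ ∈ D := by
        rcases h₂.conj_t k hk with f | f | f <;> rw [f]
        exacts [gc, g2, mul_mem gc g2]
      rcases S.D_inter_cs h₂ h₁ hne.symm (hsymm.symm ▸ ha) haR with rfl | rfl | rfl | rfl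
      · simp
      · exact hc'
      · exact ht'
      · rw [← conj_mul]; exact mul_mem ht' hc'
  · obtain ⟨v, hv, hvR⟩ := S.idx.exists_not_mem_cs hx hxZ
    obtain ⟨n, hn, hact⟩ := S.act_of_unfused hx hxZ hv hvR hf hk
    rw [hact a haR]
    exact hmap n hn a ha

theorem Setup.W_eq_bot (hq : Cfsg.IsQuasisimple G) : W₁ = ⊥ := by
  haveI := hq.1
  have hperf : commutator G = ⊤ := hq.1.commutator_eq_top
  obtain ⟨m₁, m₂, h21, -⟩ := S.t_mem h₁ h₂ hne
  set D := closure ({t₁, t₂} : Set G) with hD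
  have hp : H52.Commuting.Pair P W₁ D := by
    refine ⟨S.closed_W h₁ h₂ hne hperf, S.closed_D h₁ h₂ hne,
      fun a ha b hb => (commute_ZP (h₁.le ha) (S.D_le h₁ h₂ hne hb)).eq, eq_bot_iff.2 fun u hu => ?_⟩
    rcases S.D_inter_ZP h₁ h₂ hne hu.2 (h₁.le hu.1) with rfl | rfl
    · exact one_mem _
    · exact absurd hu.1 h₁.notW
  have hO := oddCore_le_center hq P S.idx.nonab
  refine eq_bot_iff.2 fun w hw => ?_
  let π := QuotientGroup.mk' (center G)
  let K : Subgroup G := (centralizer ({π w} : Set (G ⧸ center G))).comap π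
  have hKmem : ∀ v : G, v ∈ K ↔ ⁅w, v⁆ ∈ center G := fun v => by
    rw [show v ∈ K ↔ π v ∈ centralizer ({π w} : Set (G ⧸ center G)) from Iff.rfl,
      mem_centralizer_singleton_iff, ← QuotientGroup.eq_one_iff, ← QuotientGroup.mk'_apply,
      map_commutatorElement, commutatorElement_eq_one_iff_mul_comm]
    exact eq_comm
  have hle : normalClosure (D : Set G) ≤ K := (closure_le _).2 fun v hv => by
    obtain ⟨d, hd, hdv⟩ := Group.mem_conjugatesOfSet_iff.1 hv
    obtain ⟨g, rfl⟩ := isConj_iff.1 hdv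
    exact (hKmem _).2 (hO (H52.Commuting.commutator_mem_oddCore hp (H52.Commuting.mem_conjs_self hw)
      (H52.Commuting.conj_mem_conjs (H52.Commuting.mem_conjs_self hd) g)))
  have htop : normalClosure (D : Set G) = ⊤ := by
    by_contra h
    have hDz := Components.qs_normal_le_center hq _ h (subset_normalClosure (subset_closure (Or.inl rfl) : t₁ ∈ D))
    exact h21 (mem_cs.2 ⟨m₂, mem_center_iff.1 hDz t₂⟩)
  have hwc : w ∈ center G := mem_center_of_mod hperf fun v =>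
    (hKmem v).1 (hle (htop ▸ mem_top v))
  rcases S.central_eq hperf (ZP_le _ (h₁.le hw)) hwc with rfl | rfl
  · exact one_mem _
  · exact absurd hw h₁.notW

/-- Two fused subgroups force a dihedral Sylow subgroup of order eight. -/
theorem Setup.dihedral (hq : Cfsg.IsQuasisimple G) :
    Nonempty (↥(P : Subgroup G) ≃* DihedralGroup 4) := by
  haveI := hq.1
  haveI : Fact (Nat.Prime 2) := ⟨Nat.prime_two⟩
  obtain ⟨m₁, m₂, h21, -⟩ := S.t_mem h₁ h₂ hne
  have hPD : (P : Subgroup G) = closure ({t₁, t₂} : Set G) := by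
    refine le_antisymm (fun p hp => ?_) (S.D_le h₁ h₂ hne)
    obtain ⟨d, hd, w, hw, rfl⟩ := S.decompose h₁ h₂ hne hq.1.commutator_eq_top hp
    have hw1 : w = 1 := by
      have : w ∈ W₁ := hw.1
      rwa [S.W_eq_bot h₁ h₂ hne hq, mem_bot] at this
    rwa [hw1, mul_one]
  have o1 : orderOf t₁ = 2 := orderOf_eq_prime (by rw [pow_two, h₁.sq])
    fun e => h₁.notZ (e ▸ one_mem _)
  have o2 : orderOf t₂ = 2 := orderOf_eq_prime (by rw [pow_two, h₂.sq])
    fun e => h₂.notZ (e ▸ one_mem _)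
  have o4 : orderOf (t₁ * t₂) = 4 := by
    refine (orderOf_eq_prime_pow (p := 2) (n := 1) ?_ ?_).trans (by norm_num)
    · rw [pow_one, pow_two, S.prod_sq h₁ h₂ hne]; exact S.ne
    · rw [show 2 ^ (1 + 1) = 2 * 2 by norm_num, pow_mul, pow_two (t₁ * t₂), S.prod_sq h₁ h₂ hne,
        pow_two, S.sq]
  obtain ⟨e⟩ := S0206.result t₁ t₂ o1 o2 fun e => h21 (e ▸ h₁.memR)
  rw [o4] at e
  exact ⟨(MulEquiv.subgroupCongr hPD).trans e⟩

end Cfsg.Agent.H4.CentIndexFour
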