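import Cfsg.Agent.H4.CentIndexFour.Automizer
import Cfsg.Agent.Fusion.Basic

/-!
# Centre of index four: fusion in `P`

A subset of `P` invariant under `N(P)` and under the normalisers of the abelian maximal subgroups is
closed under conjugation inside `P`.
-/

set_option autoImplicit false
set_option linter.unusedSectionVars false
set_option linter.style.haveILetI false

namespace Cfsg.Agent.H4.CentIndexFour

open Subgroup
open scoped commutatorElement

variable {G : Type*} [Group G]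

theorem Idx4.exists_not_mem_cs {P : Subgroup G} (h : Idx4 P) {x : G} (hx : x ∈ P) (hxZ : x ∉ ZP P) :
    ∃ y ∈ P, y ∉ cs P x := by
  obtain ⟨y, hy, hyZ, hxy⟩ := h.exists_out hx
  exact ⟨y, hy, fun e => (((h.mem_cs_iff hx hxZ).1 e).elim hyZ hxy)⟩

theorem Setup.card_cs [Finite G] {P : Subgroup G} {c : G} (S : Setup P c) {x : G} (hx : x ∈ P)
    (hxZ : x ∉ ZP P) : Nat.card ↥P = Nat.card ↥(cs P x) * 2 := by
  obtain ⟨y, hy, hyR⟩ := S.idx.exists_not_mem_cs hx hxZ
  have hi : ((cs P x).subgroupOf P).index = 2 := by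
    refine index_eq_two_iff.2 ⟨⟨y, hy⟩, fun b => ?_⟩
    simp only [mem_subgroupOf, coe_mul]
    by_cases hb : (b : G) ∈ cs P x
    · refine Or.inr ⟨hb, fun e => hyR ?_⟩
      simpa using mul_mem (inv_mem hb) e
    · refine Or.inl ⟨?_, hb⟩
      have h := inv_mem (S.inv_mul_mem_cs hx hxZ hy hyR (inv_mem b.2) (fun e => hb (by simpa using inv_mem e)))
      simpa using h
  rw [← ((cs P x).subgroupOf P).card_mul_index, hi,
    Nat.card_congr (subgroupOfEquivOfLe (cs_le P x)).toEquiv]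

section Finite

/-- A `2`-subgroup stays one in a subgroup. -/
theorem isPGroup_subgroupOf {T : Subgroup G} (hT : IsPGroup 2 ↥T) (K : Subgroup G) :
    IsPGroup 2 ↥(T.subgroupOf K) :=
  hT.comap_of_injective K.subtype K.subtype_injective

variable [Finite G] {P : Sylow 2 G} {c : G} (S : Setup (P : Subgroup G) c)
include S

theorem Setup.exists_central {a : G} (ha : a ∈ (P : Subgroup G)) (haZ : a ∉ ZP (P : Subgroup G))
    (hd : Nat.card ↥(P : Subgroup G) ∣ Nat.card ↥(centralizer ({a} : Set G))) :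
    ∃ k ∈ normalizer (cs (P : Subgroup G) a : Set G), k * a * k⁻¹ ∈ ZP (P : Subgroup G) := by
  haveI : Fact (Nat.Prime 2) := ⟨Nat.prime_two⟩
  set R := cs (P : Subgroup G) a with hR
  set C := centralizer ({a} : Set G) with hC
  obtain ⟨Q₀, hQ₀⟩ := (isPGroup_subgroupOf (P.isPGroup'.to_le (cs_le (P : Subgroup G) a)) C).exists_le_sylow
  set T := (Q₀ : Subgroup ↥C).map C.subtype with hT
  have hTC : T ≤ C := map_subtype_le _
  have hTcard : Nat.card ↥(P : Subgroup G) ∣ Nat.card ↥T := by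
    rw [hT, card_map_of_injective C.subtype_injective]
    obtain ⟨e, he⟩ := IsPGroup.iff_card.1 P.isPGroup'
    rw [he] at hd ⊢
    exact Q₀.pow_dvd_card_of_pow_dvd_card hd
  obtain ⟨Q, hQ⟩ := (Q₀.isPGroup'.map C.subtype).exists_le_sylow
  have hTQ : T = (Q : Subgroup G) := eq_of_le_of_card_ge hQ (by
    rw [Q.card_eq_multiplicity, ← P.card_eq_multiplicity]
    exact Nat.le_of_dvd Nat.card_pos hTcard)
  have hRC : R ≤ C := fun r hr => mem_centralizer_singleton_iff.2 (mem_cs.1 hr).2.eq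
  have hRQ : R ≤ (Q : Subgroup G) := hTQ ▸ fun r hr => ⟨⟨r, hRC hr⟩, hQ₀ hr, rfl⟩
  have hQN : (Q : Subgroup G) ≤ normalizer (R : Set G) := by
    haveI : (R.subgroupOf (Q : Subgroup G)).Normal := by
      refine normal_of_index_eq_two ?_
      have h1 := (R.subgroupOf (Q : Subgroup G)).card_mul_index
      rw [Nat.card_congr (subgroupOfEquivOfLe hRQ).toEquiv, Q.card_eq_multiplicity,
        ← P.card_eq_multiplicity, S.card_cs ha haZ] at h1
      exact Nat.eq_of_mul_eq_mul_left Nat.card_pos h1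
    exact (normal_subgroupOf_iff_le_normalizer hRQ).1 this
  have hPN : (P : Subgroup G) ≤ normalizer (R : Set G) := S.le_normalizer_cs ha
  obtain ⟨k, hk⟩ := MulAction.exists_smul_eq (normalizer (R : Set G)) (Q.subtype hQN) (P.subtype hPN)
  rw [Sylow.smul_subtype] at hk
  have hk' : (k : G) • Q = P := Sylow.subtype_injective hk
  refine ⟨k, k.2, mem_ZP.2 ⟨?_, fun p hp => ?_⟩⟩
  · exact cs_le _ a (conj_mem_of_normalizer k.2 (mem_cs.2 ⟨ha, Commute.refl a⟩))
  · have hp' : (k : G)⁻¹ * p * k ∈ Q := Fusion.mem_sylow_smul.1 (by rw [hk']; exact hp)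
    have h1 : Commute ((k : G)⁻¹ * p * k) a :=
      mem_centralizer_singleton_iff.1 (hTC (hTQ ▸ hp'))
    have h2 := congrArg (fun u => (k : G) * u * (k : G)⁻¹) h1.eq
    group at h2
    show p * ((k : G) * a * (k : G)⁻¹) = (k : G) * a * (k : G)⁻¹ * p
    group
    exact h2

theorem Setup.sylow_centralizer {a : G} (ha : a ∈ (P : Subgroup G))
    (haZ : a ∉ ZP (P : Subgroup G))
    (hd : ¬ Nat.card ↥(P : Subgroup G) ∣ Nat.card ↥(centralizer ({a} : Set G)))
    {T : Subgroup G} (hT : IsPGroup 2 ↥T) (hTC : T ≤ centralizer ({a} : Set G)) :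
    Nat.card ↥T ∣ Nat.card ↥(cs (P : Subgroup G) a) := by
  haveI : Fact (Nat.Prime 2) := ⟨Nat.prime_two⟩
  obtain ⟨i, hi⟩ := IsPGroup.iff_card.1 hT
  obtain ⟨e, he⟩ := IsPGroup.iff_card.1 P.isPGroup'
  have hdvd : 2 ^ i ∣ Nat.card ↥(centralizer ({a} : Set G)) := hi ▸ card_dvd_of_le hTC
  have hlt : i < e := by
    by_contra! hle
    exact hd (he ▸ (pow_dvd_pow 2 hle).trans hdvd)
  have h2 := S.card_cs ha haZ
  rw [he] at h2
  obtain ⟨j, hj⟩ := IsPGroup.iff_card.1 (P.isPGroup'.to_le (cs_le (P : Subgroup G) a))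
  rw [hj, ← pow_succ] at h2
  have hje := Nat.pow_right_injective le_rfl h2
  rw [hi, hj]
  exact pow_dvd_pow 2 (by omega)

/-- **Fusion**: a set invariant under the local normalisers is closed. -/
theorem Setup.closed_of (A : Set G)
    (hN : ∀ n ∈ normalizer ((P : Subgroup G) : Set G), ∀ a ∈ A, a ∈ (P : Subgroup G) →
      n * a * n⁻¹ ∈ A)
    (hR : ∀ x ∈ (P : Subgroup G), x ∉ ZP (P : Subgroup G) →
      ∀ k ∈ normalizer (cs (P : Subgroup G) x : Set G), ∀ a ∈ A, a ∈ cs (P : Subgroup G) x →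
        k * a * k⁻¹ ∈ A)
    {a : G} (haA : a ∈ A) (ha : a ∈ (P : Subgroup G)) {g : G}
    (hg : g * a * g⁻¹ ∈ (P : Subgroup G)) : g * a * g⁻¹ ∈ A := by
  haveI : Fact (Nat.Prime 2) := ⟨Nat.prime_two⟩
  set b := g * a * g⁻¹ with hb
  have hcard : ∀ g' u : G, Nat.card ↥(centralizer ({g' * u * g'⁻¹} : Set G)) =
      Nat.card ↥(centralizer ({u} : Set G)) := by
    intro g' u
    refine Nat.card_congr ((MulAut.conj g').toEquiv.subtypeEquiv fun v => ?_).symm
    simp only [mem_centralizer_singleton_iff, MulEquiv.toEquiv_eq_coe, EquivLike.coe_coe,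
      MulAut.conj_apply]
    rw [conj_mul, conj_mul]
    exact ⟨fun e => by rw [e], fun e => (MulAut.conj g').injective (by simpa [mul_assoc] using e)⟩
  have hZC : ∀ z ∈ ZP (P : Subgroup G), z ∈ centralizer ((P : Subgroup G) : Set G) := fun z hz =>
    mem_centralizer_iff.2 fun p hp => ((mem_ZP.1 hz).2 p hp).eq
  by_cases hd : Nat.card ↥(P : Subgroup G) ∣ Nat.card ↥(centralizer ({a} : Set G))
  · -- both are conjugate into the centre
    have hto : ∀ u ∈ (P : Subgroup G),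
        Nat.card ↥(P : Subgroup G) ∣ Nat.card ↥(centralizer ({u} : Set G)) →
        ∃ k, k * u * k⁻¹ ∈ ZP (P : Subgroup G) ∧ (u ∈ A → k * u * k⁻¹ ∈ A) ∧
          (k * u * k⁻¹ ∈ A → u ∈ A) := by
      intro u hu hdu
      by_cases huZ : u ∈ ZP (P : Subgroup G)
      · exact ⟨1, by simpa using huZ, fun h => by simpa using h, fun h => by simpa using h⟩
      · obtain ⟨k, hk, hkz⟩ := S.exists_central hu huZ hdu
        refine ⟨k, hkz, fun h => hR u hu huZ k hk u h (mem_cs.2 ⟨hu, Commute.refl u⟩), fun h => ?_⟩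
        have := hR u hu huZ k⁻¹ (inv_mem hk) _ h (S.idx.ZP_le_cs hu hkz)
        rwa [show k⁻¹ * (k * u * k⁻¹) * k⁻¹⁻¹ = u by group] at this
    obtain ⟨k₁, hz₁, hA₁, -⟩ := hto a ha hd
    obtain ⟨k₂, hz₂, -, hA₂⟩ := hto b hg (by rw [hb, hcard]; exact hd)
    have e : (k₂ * g * k₁⁻¹) * (k₁ * a * k₁⁻¹) * (k₂ * g * k₁⁻¹)⁻¹ = k₂ * b * k₂⁻¹ := by
      rw [hb]; group
    obtain ⟨n, hn, hn'⟩ := Fusion.burnside_fusion_centralizer P (g := k₂ * g * k₁⁻¹)
      (hZC _ hz₁) (e ▸ hZC _ hz₂)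
    refine hA₂ ?_
    rw [← e, ← hn']
    exact hN n hn _ (hA₁ haA) (ZP_le _ hz₁)
  · -- the centralisers have Sylow subgroups `cs P a`, `cs P b`
    have hdb : ¬ Nat.card ↥(P : Subgroup G) ∣ Nat.card ↥(centralizer ({b} : Set G)) := by
      rw [hb, hcard]; exact hd
    have hPC : ∀ u ∈ ZP (P : Subgroup G),
        Nat.card ↥(P : Subgroup G) ∣ Nat.card ↥(centralizer ({u} : Set G)) := fun u hu =>
      card_dvd_of_le fun p hp => mem_centralizer_singleton_iff.2 ((mem_ZP.1 hu).2 p hp).eq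
    have haZ : a ∉ ZP (P : Subgroup G) := fun e => hd (hPC a e)
    have hbZ : b ∉ ZP (P : Subgroup G) := fun e => hdb (hPC b e)
    set Ra := cs (P : Subgroup G) a with hRa
    set Rb := cs (P : Subgroup G) b with hRb
    set C := centralizer ({b} : Set G) with hC
    set T := Ra.map (MulAut.conj g).toMonoidHom with hT
    have hTC : T ≤ C := by
      rintro _ ⟨r, hr, rfl⟩
      refine mem_centralizer_singleton_iff.2 ?_
      simp only [MulEquiv.coe_toMonoidHom, MulAut.conj_apply]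
      rw [hb, conj_mul, conj_mul, (mem_cs.1 hr).2.eq]
    have hTp : IsPGroup 2 ↥T := (P.isPGroup'.to_le (cs_le (P : Subgroup G) a)).map _
    have hRbp : IsPGroup 2 ↥Rb := P.isPGroup'.to_le (cs_le (P : Subgroup G) b)
    have hRbC : Rb ≤ C := fun r hr => mem_centralizer_singleton_iff.2 (mem_cs.1 hr).2.eq
    have hTcard : Nat.card ↥T = Nat.card ↥Rb := by
      have h1 := S.card_cs ha haZ
      have h2 := S.card_cs hg hbZ
      rw [hT, Coprime.card_map_conj]
      rw [← hRa] at h1; rw [← hRb] at h2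
      omega
    obtain ⟨Q₁, hQ₁⟩ := (isPGroup_subgroupOf hTp C).exists_le_sylow
    obtain ⟨Q₂, hQ₂⟩ := (isPGroup_subgroupOf hRbp C).exists_le_sylow
    obtain ⟨z, hz⟩ := MulAction.exists_smul_eq ↥C Q₁ Q₂
    have hQ₂' : ∀ u : ↥C, u ∈ Q₂ → (u : G) ∈ Rb := by
      have h1 : Rb = (Q₂ : Subgroup ↥C).map C.subtype := by
        refine eq_of_le_of_card_ge (fun r hr => ⟨⟨r, hRbC hr⟩, hQ₂ hr, rfl⟩) (Nat.le_of_dvd Nat.card_pos ?_)
        exact S.sylow_centralizer hg hbZ hdb (Q₂.isPGroup'.map _) (map_subtype_le _)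
      exact fun u hu => h1 ▸ ⟨u, hu, rfl⟩
    set h := (z : G) * g with hh
    have hha : h * a * h⁻¹ = b := by
      calc h * a * h⁻¹ = (z : G) * b * (z : G)⁻¹ := by rw [hh, hb]; group
        _ = b := by rw [mem_centralizer_singleton_iff.1 z.2, mul_inv_cancel_right]
    have himage : (fun u => h * u * h⁻¹) '' (Ra : Set G) = (Rb : Set G) := by
      refine Set.eq_of_subset_of_ncard_le ?_ ?_ (Set.toFinite _)
      · rintro _ ⟨r, hr, rfl⟩
        have h1 : g * r * g⁻¹ ∈ C := hTC ⟨r, hr, rfl⟩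
        have h2 : z * ⟨_, h1⟩ * z⁻¹ ∈ Q₂ := by
          rw [← hz]
          refine Fusion.mem_sylow_smul.2 ?_
          rw [show z⁻¹ * (z * ⟨_, h1⟩ * z⁻¹) * z = (⟨_, h1⟩ : ↥C) by group]
          exact hQ₁ (⟨r, hr, rfl⟩ : g * r * g⁻¹ ∈ T)
        have h3 := hQ₂' _ h2
        rw [SetLike.mem_coe]
        convert h3 using 1
        simp [hh, mul_assoc]
      · rw [Set.ncard_image_of_injective _ (fun u v e => by simpa using e), ← Nat.card_coe_set_eq,
          ← Nat.card_coe_set_eq]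
        rw [hT, Coprime.card_map_conj] at hTcard
        exact hTcard.ge
    obtain ⟨n, hn, hn'⟩ := Fusion.burnside_fusion_sets P (S.le_normalizer_cs ha)
      (S.le_normalizer_cs hg) himage
    rw [← hRa, ← hRb] at hn'
    have hw : h * n⁻¹ ∈ normalizer (Rb : Set G) := by
      refine Fusion.conj_image_eq_iff.1 ?_
      rw [← Fusion.conj_image_image]
      conv_rhs => rw [← himage]
      congr 1
      rw [← hn', Fusion.conj_image_image]
      simp
    have hna : n * a * n⁻¹ ∈ Rb := by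
      rw [← SetLike.mem_coe, ← hn']
      exact ⟨a, mem_cs.2 ⟨ha, Commute.refl a⟩, rfl⟩
    have := hR b hg hbZ _ hw _ (hN n hn a haA ha) hna
    rwa [show h * n⁻¹ * (n * a * n⁻¹) * (h * n⁻¹)⁻¹ = h * a * h⁻¹ by group, hha] at this

/-- If all maximal abelian subgroups are unfused, `N(P)` controls the fusion in `P`. -/
theorem Setup.controls (hf : ∀ x ∈ (P : Subgroup G), x ∉ ZP (P : Subgroup G) →
      ¬ Fused c (cs (P : Subgroup G) x)) :
    Fusion.ControlsElementFusion (normalizer ((P : Subgroup G) : Set G)) (P : Subgroup G) := by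
  intro a ha g hg
  refine S.closed_of {b | ∃ n ∈ normalizer ((P : Subgroup G) : Set G), n * a * n⁻¹ = b}
    (fun m hm b hb _ => ?_) (fun x hx hxZ k hk b hb hbR => ?_) ⟨1, one_mem _, by group⟩ ha hg
  · obtain ⟨n, hn, rfl⟩ := hb
    exact ⟨m * n, mul_mem hm hn, by group⟩
  · obtain ⟨y, hy, hyR⟩ := S.idx.exists_not_mem_cs hx hxZ
    obtain ⟨m, hm, hact⟩ := S.act_of_unfused hx hxZ hy hyR (hf x hx hxZ) hk
    obtain ⟨n, hn, rfl⟩ := hb
    exact ⟨m * n, mul_mem hm hn, by rw [hact _ hbR]; group⟩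

/-- A subgroup containing all the local differences contains the focal subgroup. -/
theorem Setup.focal_le (H : Subgroup G)
    (hN : ∀ n ∈ normalizer ((P : Subgroup G) : Set G), ∀ b ∈ (P : Subgroup G),
      b⁻¹ * (n * b * n⁻¹) ∈ H)
    (hR : ∀ x ∈ (P : Subgroup G), x ∉ ZP (P : Subgroup G) →
      ∀ k ∈ normalizer (cs (P : Subgroup G) x : Set G), ∀ b ∈ cs (P : Subgroup G) x,
        b⁻¹ * (k * b * k⁻¹) ∈ H) :
    (P : Subgroup G).focalSubgroup ≤ H := by
  rw [focalSubgroup_def, closure_le]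
  rintro _ ⟨hmem, x, hx, u, rfl⟩
  have h1 : u * x⁻¹ * u⁻¹ ∈ (P : Subgroup G) := by
    have := mul_mem (inv_mem hx) hmem
    simpa [commutatorElement_def, mul_assoc] using this
  have h2 := S.closed_of {b | x * b ∈ H} (fun n hn b hb hbP => ?_)
    (fun x' hx' hxZ k hk b hb hbR => ?_) (a := x⁻¹) (by simp) (inv_mem hx) h1
  · rw [SetLike.mem_coe, commutatorElement_def]
    simpa [mul_assoc] using h2
  · have := mul_mem hb (hN n hn b hbP)
    rwa [show x * b * (b⁻¹ * (n * b * n⁻¹)) = x * (n * b * n⁻¹) by group] at this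
  · have := mul_mem hb (hR x' hx' hxZ k hk b hbR)
    rwa [show x * b * (b⁻¹ * (k * b * k⁻¹)) = x * (k * b * k⁻¹) by group] at this

theorem Setup.le_of_perfect (hperf : commutator G = ⊤) {H : Subgroup G}
    (h : (P : Subgroup G).focalSubgroup ≤ H) : (P : Subgroup G) ≤ H := by
  haveI : Fact (Nat.Prime 2) := ⟨Nat.prime_two⟩
  rwa [← commutator_inf_eq_focalSubgroup, hperf, top_inf_eq] at h

end Finite

end Cfsg.Agent.H4.CentIndexFour
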