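import Cfsg.Agent.H4.CentIndexFour.Quasi
import Cfsg.Agent.H4.CentIndexFour.Four
import Cfsg.Agent.H10.AbTwo.Reduce
import Cfsg.Agent.Cores.GlaubermanZStar
import Cfsg.Agent.H80.GW.RankOne

/-!
# Centre of index four: the unfused case

`N(P)` controls the fusion, so the derived involution `c` is central; the central quotient has an
abelian Sylow `2`-subgroup of rank two, hence a four group, and `P` has order eight.
-/

set_option autoImplicit false
set_option linter.unusedSectionVars false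
set_option linter.style.haveILetI false

namespace Cfsg.Agent.H4.CentIndexFour

open Subgroup
open scoped commutatorElement

universe u

variable {G : Type u} [Group G] [Finite G]

theorem Setup.c_central {P : Sylow 2 G} {c : G} (S : Setup (P : Subgroup G) c)
    (hq : Cfsg.IsQuasisimple G) (hf : ∀ x ∈ (P : Subgroup G), x ∉ ZP (P : Subgroup G) →
      ¬ Fused c (cs (P : Subgroup G) x)) : c ∈ center G := by
  haveI : Fact (Nat.Prime 2) := ⟨Nat.prime_two⟩
  have hiso : ∀ g : G, g * c * g⁻¹ ∈ P → g * c * g⁻¹ = c := fun g hg => by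
    obtain ⟨n, hn, e⟩ := S.controls hf c (ZP_le _ S.mem) g hg
    rw [← e, S.conj_c hn]
  have ho : orderOf c = 2 := orderOf_eq_prime (by rw [pow_two, S.sq]) S.ne
  refine mem_center_of_mod hq.1.commutator_eq_top fun g => oddCore_le_center hq P S.idx.nonab ?_
  rw [commutatorElement_def]
  exact Cores.glaubermanZStar P ho (ZP_le _ S.mem) hiso g

theorem unfused_case (hD : H80.GW.DihedralStatement.{u}) (hq : Cfsg.IsQuasisimple G) {P : Sylow 2 G}
    {c : G} (S : Setup (P : Subgroup G) c)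
    (hf : ∀ x ∈ (P : Subgroup G), x ∉ ZP (P : Subgroup G) → ¬ Fused c (cs (P : Subgroup G) x)) :
    Nat.card ↥(P : Subgroup G) = 8 ∧ ∃ (F : Type) (_ : Field F) (_ : Fintype F),
      Odd (Fintype.card F) ∧ Nonempty (G ⧸ center G ≃* Matrix.ProjectiveSpecialLinearGroup (Fin 2) F) := by
  haveI : Fact (Nat.Prime 2) := ⟨Nat.prime_two⟩
  haveI := hq.2
  haveI := hq.1
  have hperf : commutator G = ⊤ := hq.1.commutator_eq_top
  have hcc := S.c_central hq hf
  set π := QuotientGroup.mk' (center G) with hπ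
  have hsurj : Function.Surjective π := QuotientGroup.mk'_surjective _
  have hker : ∀ g : G, π g = 1 ↔ g ∈ center G := fun g => QuotientGroup.eq_one_iff g
  set T := P.mapSurjective hsurj with hT
  have hTmem : ∀ q : G ⧸ center G, q ∈ (T : Subgroup (G ⧸ center G)) ↔ ∃ p ∈ (P : Subgroup G), π p = q := by
    intro q
    rw [hT, Sylow.coe_mapSurjective]
    exact Iff.rfl
  have hQ := Components.qs_quotient_not_comm hq
  have hTc : IsMulCommutative ↥(T : Subgroup (G ⧸ center G)) := by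
    refine ⟨⟨fun a b => Subtype.ext ?_⟩⟩
    obtain ⟨p, hp, hpa⟩ := (hTmem _).1 a.2
    obtain ⟨q, hq', hqb⟩ := (hTmem _).1 b.2
    show (a : G ⧸ center G) * b = b * a
    rw [← hpa, ← hqb]
    rcases S.val p hp q hq' with e | e
    · rw [← map_mul, ← map_mul, ← mul_inv_eq_iff_eq_mul.1 e]
    · rw [← map_mul, ← map_mul, mul_inv_eq_iff_eq_mul.1 e, mul_assoc, map_mul π c, (hker c).2 hcc, one_mul]
  -- elements of `P` mapping into the image of the centre are central in `P`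
  set Zb := (ZP (P : Subgroup G)).map π with hZb
  have hback : ∀ p ∈ (P : Subgroup G), π p ∈ Zb → p ∈ ZP (P : Subgroup G) := by
    rintro p hp ⟨z, hz, e⟩
    have h1 : z⁻¹ * p ∈ center G := by
      rw [← hker, map_mul, map_inv, e, inv_mul_cancel]
    have h2 : z⁻¹ * p ∈ ZP (P : Subgroup G) := by
      rcases S.central_eq hperf (mul_mem (inv_mem (ZP_le _ hz)) hp) h1 with f | f
      · rw [f]; exact one_mem _
      · rw [f]; exact S.mem
    simpa using mul_mem hz h2
  have hZT : Zb ≤ (T : Subgroup (G ⧸ center G)) := by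
    rintro _ ⟨z, hz, rfl⟩
    exact (hTmem _).2 ⟨z, ZP_le _ hz, rfl⟩
  have hNP : ∀ g : G, π g ∈ normalizer ((T : Subgroup (G ⧸ center G)) : Set (G ⧸ center G)) →
      g ∈ normalizer ((P : Subgroup G) : Set G) := by
    intro g hg
    refine Coprime.mem_normalizer_of_map_conj (eq_of_le_of_card_ge ?_ (Coprime.card_map_conj g _).ge)
    rintro _ ⟨p, hp, rfl⟩
    simp only [MulEquiv.coe_toMonoidHom, MulAut.conj_apply]
    have h1 : π (g * p * g⁻¹) ∈ (T : Subgroup (G ⧸ center G)) := by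
      rw [map_mul, map_mul, map_inv]
      exact Coprime.conj_mem hg ((hTmem _).2 ⟨p, hp, rfl⟩)
    obtain ⟨p', hp', e⟩ := (hTmem _).1 h1
    set z := p'⁻¹ * (g * p * g⁻¹) with hz
    have hzc : z ∈ center G := by rw [← hker, hz, map_mul, map_inv, e, inv_mul_cancel]
    have hzp : IsPGroup 2 ↥(zpowers z) := by
      obtain ⟨i, hi⟩ := IsPGroup.iff_card.1 P.isPGroup'
      have hpow : ∀ q ∈ (P : Subgroup G), q ^ (2 ^ i) = 1 := fun q hq'' => by
        rw [← hi]
        exact congrArg Subtype.val (pow_card_eq_one' (x := (⟨q, hq''⟩ : ↥(P : Subgroup G))))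
      have hcm : Commute p'⁻¹ (g * p * g⁻¹) := by
        have h2 : Commute p'⁻¹ z := (mem_center_iff.1 hzc p'⁻¹)
        have h3 : g * p * g⁻¹ = p' * z := by rw [hz, mul_inv_cancel_left]
        rw [h3]
        exact (Commute.refl p').inv_left.mul_right h2
      have hz1 : z ^ (2 ^ i) = 1 := by
        rw [hz, hcm.mul_pow, hpow _ (inv_mem hp'), one_mul, conj_pow, hpow p hp, mul_one, mul_inv_cancel]
      obtain ⟨j, -, hj⟩ := (Nat.dvd_prime_pow Nat.prime_two).1 (orderOf_dvd_of_pow_eq_one hz1)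
      exact IsPGroup.iff_card.2 ⟨j, (Nat.card_zpowers _).trans hj⟩
    have := mul_mem hp' (mem_sylow_of_central (P := P) hzc hzp)
    rwa [hz, mul_inv_cancel_left] at this
  have hPN : ∀ g ∈ normalizer ((P : Subgroup G) : Set G),
      π g ∈ normalizer ((T : Subgroup (G ⧸ center G)) : Set (G ⧸ center G)) := by
    intro g hg
    refine Coprime.mem_normalizer_of_map_conj (eq_of_le_of_card_ge ?_ (Coprime.card_map_conj _ _).ge)
    rintro _ ⟨q, hq', rfl⟩
    obtain ⟨p, hp, rfl⟩ := (hTmem q).1 hq'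
    exact (hTmem _).2 ⟨g * p * g⁻¹, conj_mem_of_normalizer hg hp, by simp⟩
  have hZi : ∀ g ∈ normalizer ((T : Subgroup (G ⧸ center G)) : Set (G ⧸ center G)), ∀ z ∈ Zb,
      g * z * g⁻¹ ∈ Zb := by
    rintro q hq' _ ⟨z, hz, rfl⟩
    obtain ⟨g, rfl⟩ := hsurj q
    exact ⟨g * z * g⁻¹, conj_mem_ZP (hNP g hq') hz, by simp⟩
  have hsq : ∀ w ∈ (T : Subgroup (G ⧸ center G)), w * w ∈ Zb := fun w hw => by
    obtain ⟨p, hp, rfl⟩ := (hTmem w).1 hw
    exact ⟨p * p, S.idx.sq_mem hp, map_mul π p p⟩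
  have hcover : ∀ u ∈ (T : Subgroup (G ⧸ center G)), ∀ v ∈ (T : Subgroup (G ⧸ center G)),
      u ∉ Zb → v ∉ Zb → u⁻¹ * v ∉ Zb → ∀ w ∈ (T : Subgroup (G ⧸ center G)),
        w ∈ Zb ∨ u⁻¹ * w ∈ Zb ∨ v⁻¹ * w ∈ Zb ∨ (u * v)⁻¹ * w ∈ Zb := by
    intro u hu v hv huZ hvZ huv w hw
    obtain ⟨p, hp, rfl⟩ := (hTmem u).1 hu
    obtain ⟨q, hq', rfl⟩ := (hTmem v).1 hv
    obtain ⟨r, hr, rfl⟩ := (hTmem w).1 hw
    simp only [← map_inv, ← map_mul]
    rcases S.idx.cover hp hq' (fun e => huZ ⟨p, e, rfl⟩) (fun e => hvZ ⟨q, e, rfl⟩)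
      (fun e => huv ⟨_, e, by rw [map_mul, map_inv]⟩) hr with e | e | e | e
    exacts [Or.inl ⟨r, e, rfl⟩, Or.inr (Or.inl ⟨_, e, rfl⟩), Or.inr (Or.inr (Or.inl ⟨_, e, rfl⟩)),
      Or.inr (Or.inr (Or.inr ⟨_, e, rfl⟩))]
  obtain ⟨x, hx, hxZ, -⟩ := S.idx.exists_out (P : Subgroup G).one_mem
  obtain ⟨y, hy, hyZ, hxy⟩ := S.idx.exists_out hx
  have hind : ∃ u ∈ (T : Subgroup (G ⧸ center G)), ∃ v ∈ (T : Subgroup (G ⧸ center G)),
      u ∉ Zb ∧ v ∉ Zb ∧ u⁻¹ * v ∉ Zb :=
    ⟨π x, (hTmem _).2 ⟨x, hx, rfl⟩, π y, (hTmem _).2 ⟨y, hy, rfl⟩, fun e => hxZ (hback x hx e),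
      fun e => hyZ (hback y hy e), fun e => hxy (hback _ (mul_mem (inv_mem hx) hy)
        (by rwa [map_mul, map_inv]))⟩
  -- some element of `N(P)` moves a coset
  obtain ⟨n, hn, b, hb, hnb⟩ : ∃ n ∈ normalizer ((P : Subgroup G) : Set G), ∃ b ∈ (P : Subgroup G),
      b⁻¹ * (n * b * n⁻¹) ∉ ZP (P : Subgroup G) := by
    by_contra! hno
    refine hxZ (S.le_of_perfect hperf (S.focal_le _ hno fun u hu huZ k hk b hb => ?_) hx)
    obtain ⟨v, hv, hvR⟩ := S.idx.exists_not_mem_cs hu huZ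
    obtain ⟨n, hn, hact⟩ := S.act_of_unfused hu huZ hv hvR (hf u hu huZ) hk
    rw [hact b hb]
    exact hno n hn b (cs_le _ u hb)
  set N := normalizer ((T : Subgroup (G ⧸ center G)) : Set (G ⧸ center G)) with hN
  have hcop : Nat.Coprime (Nat.card ↥((T : Subgroup (G ⧸ center G)).subgroupOf N))
      ((T : Subgroup (G ⧸ center G)).subgroupOf N).index := by
    rw [← Sylow.coe_subtype T le_normalizer]
    obtain ⟨i, hi⟩ := IsPGroup.iff_card.1 (T.subtype (le_normalizer : _ ≤ N)).isPGroup'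
    rw [hi]
    exact Nat.Coprime.pow_left i
      (Nat.prime_two.coprime_iff_not_dvd.2 (T.subtype (le_normalizer : _ ≤ N)).not_dvd_index)
  haveI : ((T : Subgroup (G ⧸ center G)).subgroupOf N).Normal := normal_in_normalizer
  obtain ⟨A₀, hA₀⟩ := Subgroup.exists_right_complement'_of_coprime hcop
  set A := A₀.map N.subtype with hA
  have hAodd : Odd (Nat.card ↥A) := by
    rw [hA, card_map_of_injective N.subtype_injective, ← hA₀.symm.index_eq_card]
    obtain ⟨i, hi⟩ := IsPGroup.iff_card.1 (T.subtype (le_normalizer : _ ≤ N)).isPGroup'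
    rw [← Sylow.coe_subtype T le_normalizer]
    exact Nat.not_even_iff_odd.1 fun he =>
      (T.subtype (le_normalizer : _ ≤ N)).not_dvd_index (even_iff_two_dvd.1 he)
  have hsup : ∀ g ∈ N, ∃ t ∈ (T : Subgroup (G ⧸ center G)), ∃ a ∈ A, g = t * a := by
    intro g hg
    obtain ⟨⟨t, a⟩, e⟩ := hA₀.2 (⟨g, hg⟩ : ↥N)
    exact ⟨(t : ↥N), t.2, (a : ↥N), ⟨(a : ↥N), a.2, rfl⟩, (congrArg Subtype.val e).symm⟩
  have hmove : ∃ a ∈ A, ∃ t ∈ (T : Subgroup (G ⧸ center G)), t⁻¹ * (a * t * a⁻¹) ∉ Zb := by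
    obtain ⟨t, ht, a, ha, e⟩ := hsup (π n) (hPN n hn)
    refine ⟨a, ha, π b, (hTmem _).2 ⟨b, hb, rfl⟩, fun hmem => hnb (hback _
      (mul_mem (inv_mem hb) (conj_mem_of_normalizer hn hb)) ?_)⟩
    have hab : a * π b * a⁻¹ ∈ (T : Subgroup (G ⧸ center G)) :=
      Coprime.conj_mem (map_subtype_le A₀ ha) ((hTmem _).2 ⟨b, hb, rfl⟩)
    rw [map_mul, map_inv, map_mul, map_mul, map_inv, e,
      show t * a * π b * (t * a)⁻¹ = t * (a * π b * a⁻¹) * t⁻¹ by group,
      show t * (a * π b * a⁻¹) = a * π b * a⁻¹ * t from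
        congrArg Subtype.val (hTc.1.comm ⟨t, ht⟩ ⟨_, hab⟩), mul_inv_cancel_right]
    exact hmem
  have h2 : Cfsg.PRankLE 2 2 (G ⧸ center G) :=
    pRankLE_two hQ hTc (map_subtype_le A₀) hAodd hsup hZT hZi hcover hsq hind hmove
  -- Gorenstein-Walter
  have hK : H10.AbTwo.GWKleinHyp.{u} := fun X _ _ _ S' h' => hD X inferInstance S' 2 le_rfl h'
  haveI : Fintype (GaloisField 2 4) := Fintype.ofFinite _
  have hF : Fintype.card (GaloisField 2 4) = 16 := by
    rw [← Nat.card_eq_fintype_card, GaloisField.card 2 4 (by norm_num)]; norm_num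
  obtain ⟨R⟩ : Nonempty (Sylow 2 (Cfsg.PSU 3 (GaloisField 2 4) 4)) := inferInstance
  rcases S0516.result hQ h2 T hF R with ⟨m, hm, ⟨e⟩⟩ | h | h | ⟨⟨e⟩⟩
  · obtain rfl := H10.AbTwo.dihedral_abelian hTc hm e
    obtain ⟨F, fld, ft, h8, -, he⟩ := H10.AbTwo.klein_simple hK hQ T ⟨e⟩
    refine ⟨?_, F, fld, ft, ?_, he⟩
    · set f := π.comp (P : Subgroup G).subtype with hf'
      have hrange : f.range = (T : Subgroup (G ⧸ center G)) := by
        rw [hf', MonoidHom.range_comp, range_subtype]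
        exact (Sylow.coe_mapSurjective _ _).symm
      have hkc : f.ker = (zpowers c).subgroupOf (P : Subgroup G) := by
        ext p
        rw [MonoidHom.mem_ker, mem_subgroupOf]
        show π (p : G) = 1 ↔ _
        rw [hker]
        refine ⟨fun h => ?_, fun h => ?_⟩
        · rcases S.central_eq hperf p.2 h with e | e <;> rw [e]
          exacts [one_mem _, mem_zpowers c]
        · exact zpowers_le.2 hcc h
      rw [card_eq_card_quotient_mul_card_subgroup f.ker,
        Nat.card_congr (QuotientGroup.quotientKerEquivRange f).toEquiv, hrange, Nat.card_congr e.toEquiv,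
        DihedralGroup.nat_card, hkc,
        Nat.card_congr (subgroupOfEquivOfLe (zpowers_le.2 (ZP_le _ S.mem))).toEquiv, Nat.card_zpowers,
        orderOf_eq_prime (by rw [pow_two, S.sq]) S.ne]
    · rw [Nat.odd_iff]; omega
  · exact absurd hTc (H10.AbTwo.qd_nonabelian h)
  · exact absurd hTc (H10.AbTwo.wreathed_nonabelian h)
  · haveI := hTc
    refine absurd ?_ (H10.AbTwo.psu_sylow_nonabelian (p := 2) (q := 4) (by rw [hF]; norm_num)
      (MulEquiv.refl _) R)
    exact ⟨⟨fun a b => e.symm.injective (by rw [map_mul, map_mul]; exact hTc.1.comm _ _)⟩⟩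

end Cfsg.Agent.H4.CentIndexFour
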