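import Cfsg.Agent.H4.CentIndexFour.FusedCase
import Cfsg.Agent.H4.CentIndexFour.Unfused
import Cfsg.Agent.H74.SchurBasic
import Cfsg.Agent.S2116

/-!
# Quasisimple groups with a Sylow `2`-subgroup whose centre has index four

The statement S4594, given the Gorenstein-Walter theorem for perfect groups.
-/

set_option autoImplicit false
set_option linter.unusedSectionVars false
set_option linter.style.haveILetI false

namespace Cfsg.Agent.H4.CentIndexFour

open Subgroup
open scoped commutatorElement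

universe u

variable {G : Type u} [Group G] [Finite G]

/-- The multiplier of `A₇` has order dividing six. -/
theorem card_center_dvd_six (hq : Cfsg.IsQuasisimple G)
    (e : G ⧸ center G ≃* alternatingGroup (Fin 7)) : Nat.card ↥(center G) ∣ 6 := by
  set σ : G →* alternatingGroup (Fin 7) := e.toMonoidHom.comp (QuotientGroup.mk' (center G)) with hσ
  have hker : σ.ker = center G := by
    ext g
    rw [hσ, MonoidHom.mem_ker, MonoidHom.comp_apply, MulEquiv.coe_toMonoidHom, map_eq_one_iff e e.injective,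
      QuotientGroup.mk'_apply, QuotientGroup.eq_one_iff]
  have hstem : Cfsg.IsStemExtension σ := by
    refine ⟨e.surjective.comp (QuotientGroup.mk'_surjective _), hker.le, ?_⟩
    rw [hq.1.commutator_eq_top]
    exact le_top
  obtain ⟨f, hf⟩ := H74.Schur.exists_surjective_ker (S2116.result 7 (Or.inr rfl)) hstem
  have h := Subgroup.card_dvd_of_surjective f hf
  rwa [hker, Nat.card_congr Multiplicative.toAdd, Nat.card_zmod] at h

theorem fused_case (hD : H80.GW.DihedralStatement.{u}) (hq : Cfsg.IsQuasisimple G) {P : Sylow 2 G}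
    {c : G} (S : Setup (P : Subgroup G) c) {x : G} (hx : x ∈ (P : Subgroup G))
    (hxZ : x ∉ ZP (P : Subgroup G)) (hf : Fused c (cs (P : Subgroup G) x)) :
    Nat.card ↥(P : Subgroup G) = 8 ∧
      (Nonempty (G ≃* alternatingGroup (Fin 7)) ∨
       (Nat.card ↥(center G) = 3 ∧ Nonempty (G ⧸ center G ≃* alternatingGroup (Fin 7))) ∨
       ∃ (F : Type) (_ : Field F) (_ : Fintype F), Odd (Fintype.card F) ∧
         Nonempty (G ⧸ center G ≃* Matrix.ProjectiveSpecialLinearGroup (Fin 2) F)) := by
  haveI : Fact (Nat.Prime 2) := ⟨Nat.prime_two⟩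
  haveI := hq.1
  haveI := hq.2
  have hperf : commutator G = ⊤ := hq.1.commutator_eq_top
  obtain ⟨u, hu, huZ, hfu, hne⟩ := S.exists_second hperf hx hxZ hf
  obtain ⟨t₁, W₁, -, e₁, h₁⟩ := S.fused_gen hx hxZ hf
  obtain ⟨t₂, W₂, -, e₂, h₂⟩ := S.fused_gen hu huZ hfu
  obtain ⟨eP⟩ := S.dihedral h₁ h₂ (fun e => hne (e₂.symm.trans (e.trans e₁))) hq
  have hP8 : Nat.card ↥(P : Subgroup G) = 8 := by
    rw [Nat.card_congr eP.toEquiv, DihedralGroup.nat_card]
  refine ⟨hP8, ?_⟩
  -- the centre is odd
  have hPZ : ∀ z ∈ (P : Subgroup G), z ∈ center G → z = 1 := fun z hzP hz => by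
    rcases S.central_eq hperf hzP hz with e | e
    · exact e
    · obtain ⟨k, -, hk⟩ := hf
      subst e
      exact absurd (by rw [mem_center_iff.1 hz k, mul_inv_cancel_right]) hk
  set π := QuotientGroup.mk' (center G) with hπ
  have hsurj : Function.Surjective π := QuotientGroup.mk'_surjective _
  have hinj : Function.Injective (π.comp (P : Subgroup G).subtype) := by
    rw [injective_iff_map_eq_one]
    exact fun p hp => Subtype.ext (hPZ p p.2 ((QuotientGroup.eq_one_iff _).1 hp))
  have eQ : ↥((P.mapSurjective hsurj : Sylow 2 (G ⧸ center G)) : Subgroup (G ⧸ center G)) ≃*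
      DihedralGroup 4 := by
    refine MulEquiv.trans ?_ eP
    refine (MulEquiv.subgroupCongr ?_).trans (MonoidHom.ofInjective hinj).symm
    rw [MonoidHom.range_comp, range_subtype]
    exact Sylow.coe_mapSurjective _ _
  have hperfQ : Group.IsPerfect (G ⧸ center G) := Group.IsPerfect.ofSurjective (f := π) hsurj
  have hO : Cfsg.oddCore (G ⧸ center G) = ⊥ := by
    refine (show (Cfsg.oddCore (G ⧸ center G)).Normal from inferInstance).eq_bot_or_eq_top.resolve_right
      fun h => ?_
    have hodd := Cores.odd_card_oddCore (G := G ⧸ center G)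
    rw [h, card_top] at hodd
    have h8 : 8 ∣ Nat.card (G ⧸ center G) := by
      have := card_subgroup_dvd_card ((P.mapSurjective hsurj : Sylow 2 _) : Subgroup (G ⧸ center G))
      rwa [Nat.card_congr eQ.toEquiv, DihedralGroup.nat_card] at this
    exact Nat.not_even_iff_odd.2 hodd (even_iff_two_dvd.2 ((by norm_num : 2 ∣ 8).trans h8))
  let e0 : (G ⧸ center G) ⧸ Cfsg.oddCore (G ⧸ center G) ≃* G ⧸ center G :=
    (QuotientGroup.quotientMulEquivOfEq hO).trans QuotientGroup.quotientBot
  rcases hD (G ⧸ center G) hperfQ _ 4 (by norm_num) ⟨eQ⟩ with ⟨F, fld, ft, hodd, -, ⟨f⟩⟩ | ⟨⟨f⟩⟩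
  · exact Or.inr (Or.inr ⟨F, fld, ft, hodd, ⟨e0.symm.trans f⟩⟩)
  · have e7 := e0.symm.trans f
    have h6 := card_center_dvd_six hq e7
    have hodd : ¬ 2 ∣ Nat.card ↥(center G) := fun hdvd => by
      obtain ⟨z, hz⟩ := exists_prime_orderOf_dvd_card' (G := ↥(center G)) 2 hdvd
      have hz2 : orderOf (z : G) = 2 := by rw [Subgroup.orderOf_coe, hz]
      have hzP := mem_sylow_of_central (P := P) z.2
        (IsPGroup.iff_card.2 ⟨1, by rw [Nat.card_zpowers, hz2]; norm_num⟩)
      rw [hPZ _ hzP z.2, orderOf_one] at hz2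
      norm_num at hz2
    have h13 : Nat.card ↥(center G) = 1 ∨ Nat.card ↥(center G) = 3 := by
      have hle := Nat.le_of_dvd (by norm_num) h6
      have hpos : 0 < Nat.card ↥(center G) := Nat.card_pos
      interval_cases (Nat.card ↥(center G)) <;> simp_all
    rcases h13 with h | h
    · exact Or.inl ⟨((QuotientGroup.quotientMulEquivOfEq (card_eq_one.1 h)).trans
        QuotientGroup.quotientBot).symm.trans e7⟩
    · exact Or.inr (Or.inl ⟨h, ⟨e7⟩⟩)

/-- The statement S4594, given the dihedral Sylow theorem for perfect groups. -/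
theorem main (hD : H80.GW.DihedralStatement.{u}) (hq : Cfsg.IsQuasisimple G) (P : Sylow 2 G)
    (hna : ¬ IsMulCommutative ↥(P : Subgroup G)) (hZ : (center ↥(P : Subgroup G)).index = 4) :
    Nat.card ↥(P : Subgroup G) = 8 ∧
      (Nonempty (G ≃* alternatingGroup (Fin 7)) ∨
       (Nat.card ↥(center G) = 3 ∧ Nonempty (G ⧸ center G ≃* alternatingGroup (Fin 7))) ∨
       ∃ (F : Type) (_ : Field F) (_ : Fintype F), Odd (Fintype.card F) ∧
         Nonempty (G ⧸ center G ≃* Matrix.ProjectiveSpecialLinearGroup (Fin 2) F)) := by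
  obtain ⟨c, S⟩ := (Idx4.mk hna hZ).exists_setup
  by_cases hf : ∀ x ∈ (P : Subgroup G), x ∉ ZP (P : Subgroup G) → ¬ Fused c (cs (P : Subgroup G) x)
  · obtain ⟨h8, h⟩ := unfused_case hD hq S hf
    exact ⟨h8, Or.inr (Or.inr h)⟩
  · push Not at hf
    obtain ⟨x, hx, hxZ, hfx⟩ := hf
    exact fused_case hD hq S hx hxZ hfx

end Cfsg.Agent.H4.CentIndexFour
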