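import Cfsg.Agent.H4.CentIndexFour.Fusion
import Cfsg.Agent.Components.Basic
import Cfsg.Agent.Cores.PCore
import Cfsg.Prelude.Def_CaseTheorems

/-!
# Centre of index four in a quasisimple group

The core is central, and by transfer a central element of `P` lies in the derived subgroup of `P`.
-/

set_option autoImplicit false
set_option linter.unusedSectionVars false
set_option linter.style.haveILetI false

namespace Cfsg.Agent.H4.CentIndexFour

open Subgroup
open scoped commutatorElement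

variable {G : Type*} [Group G] [Finite G]

theorem isPGroup_sylow_le_of_normalizer {P : Sylow 2 G} {T : Subgroup G} (hT : IsPGroup 2 ↥T)
    (hN : T ≤ normalizer ((P : Subgroup G) : Set G)) : T ≤ (P : Subgroup G) := by
  have h := hT.to_sup_of_normal_right' P.isPGroup' hN
  exact (P.is_maximal' h le_sup_right) ▸ le_sup_left

/-- An odd power of an element of `N(P)` lies in `P`. -/
theorem exists_odd_pow_mem {P : Sylow 2 G} {n : G} (hn : n ∈ normalizer ((P : Subgroup G) : Set G)) :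
    ∃ m : ℕ, Odd m ∧ n ^ m ∈ (P : Subgroup G) := by
  obtain ⟨a, m, hm, he⟩ := Nat.exists_eq_two_pow_mul_odd (orderOf_pos n).ne'
  have hp : IsPGroup 2 ↥(zpowers (n ^ m)) := by
    refine IsPGroup.iff_card.2 ⟨a, ?_⟩
    rw [Nat.card_zpowers, orderOf_pow_of_dvd hm.pos.ne' (he ▸ dvd_mul_left m (2 ^ a)), he,
      Nat.mul_div_cancel _ hm.pos]
  exact ⟨m, hm, isPGroup_sylow_le_of_normalizer hp (zpowers_le.2 (pow_mem hn m)) (mem_zpowers _)⟩

theorem oddCore_le_center (hq : Cfsg.IsQuasisimple G) (P : Sylow 2 G)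
    (hna : ¬ IsMulCommutative ↥(P : Subgroup G)) : Cfsg.oddCore G ≤ center G := by
  haveI : Fact (Nat.Prime 2) := ⟨Nat.prime_two⟩
  refine Components.qs_normal_le_center hq _ fun h => hna ?_
  have hodd : Odd (Nat.card G) := by
    have := Cores.odd_card_oddCore (G := G)
    rwa [h, card_top] at this
  obtain ⟨e, he⟩ := IsPGroup.iff_card.1 P.isPGroup'
  have h1 : Nat.card ↥(P : Subgroup G) = 1 := by
    rcases Nat.eq_zero_or_pos e with rfl | hpos
    · exact he.trans (pow_zero 2)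
    · exfalso
      exact (Nat.not_even_iff_odd.2 hodd) (even_iff_two_dvd.2
        (((dvd_pow_self 2 hpos.ne').trans he.symm.dvd).trans (card_subgroup_dvd_card _)))
  haveI := (Nat.card_eq_one_iff_unique.1 h1).1
  exact ⟨⟨fun a b => Subsingleton.elim _ _⟩⟩

/-- In a perfect group an element central modulo the centre is central. -/
theorem mem_center_of_mod {E : Type*} [Group E] (hp : commutator E = ⊤) {x : E}
    (hz : ∀ y, ⁅x, y⁆ ∈ center E) : x ∈ center E := by
  let f : E →* center E :=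
    { toFun := fun y => ⟨⁅x, y⁆, hz y⟩
      map_one' := Subtype.ext (commutatorElement_one_right x)
      map_mul' := fun y y' => Subtype.ext (by
        have h1 : ⁅x, y * y'⁆ = ⁅x, y⁆ * (y * ⁅x, y'⁆ * y⁻¹) := by
          simp only [commutatorElement_def]; group
        show ⁅x, y * y'⁆ = ⁅x, y⁆ * ⁅x, y'⁆
        rw [h1, mem_center_iff.1 (hz y') y, mul_inv_cancel_right]) }
  rw [mem_center_iff]
  intro y
  let _ : CommGroup (center E) :=
    { (inferInstance : Group (center E)) with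
      mul_comm := fun a b => Subtype.ext (mem_center_iff.1 b.2 a) }
  have hy : y ∈ f.ker := Abelianization.commutator_subset_ker f (hp ▸ mem_top y)
  exact (commutatorElement_eq_one_iff_mul_comm.1 (congrArg Subtype.val (MonoidHom.mem_ker.1 hy))).symm

/-- A central `2`-element lies in every Sylow subgroup. -/
theorem mem_sylow_of_central {P : Sylow 2 G} {z : G} (hz : z ∈ center G)
    (h2 : IsPGroup 2 ↥(zpowers z)) : z ∈ (P : Subgroup G) := by
  haveI : (zpowers z).Normal := ⟨fun u hu g => by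
    have hu' : u ∈ center G := (zpowers_le.2 hz) hu
    rwa [mem_center_iff.1 hu' g, mul_inv_cancel_right]⟩
  exact h2.le_sylow_of_normal P (mem_zpowers z)

/-- Transfer: in a perfect group a central element of `P` lies in `P'`. -/
theorem central_mem_derived (hperf : commutator G = ⊤) (P : Sylow 2 G) {z : G}
    (hzP : z ∈ (P : Subgroup G)) (hz : z ∈ center G) :
    (⟨z, hzP⟩ : ↥(P : Subgroup G)) ∈ commutator ↥(P : Subgroup G) := by
  haveI : Fact (Nat.Prime 2) := ⟨Nat.prime_two⟩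
  set φ := Abelianization.of (G := ↥(P : Subgroup G)) with hφ
  suffices φ ⟨z, hzP⟩ = 1 by
    have h : (⟨z, hzP⟩ : ↥(P : Subgroup G)) ∈ φ.ker := MonoidHom.mem_ker.2 this
    rwa [hφ, Abelianization.ker_of] at h
  have key : ∀ (k : ℕ) (g₀ : G), g₀⁻¹ * z ^ k * g₀ ∈ (P : Subgroup G) → g₀⁻¹ * z ^ k * g₀ = z ^ k :=
    fun k g₀ _ => by
      rw [mul_assoc, ← mem_center_iff.1 (pow_mem hz k) g₀, inv_mul_cancel_left]
  have h0 : MonoidHom.transfer φ z = 1 :=
    MonoidHom.mem_ker.1 (Abelianization.commutator_subset_ker _ (hperf ▸ mem_top z))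
  rw [MonoidHom.transfer_eq_pow φ z key] at h0
  have h1 : φ ⟨z, hzP⟩ ^ (P : Subgroup G).index = 1 := by
    rw [← map_pow]; exact h0
  obtain ⟨j, hj⟩ := P.isPGroup' ⟨z, hzP⟩
  have h2 : φ ⟨z, hzP⟩ ^ 2 ^ j = 1 := by rw [← map_pow, hj, map_one]
  have hcop : Nat.gcd (P : Subgroup G).index (2 ^ j) = 1 :=
    Nat.Coprime.pow_right j ((Nat.prime_two.coprime_iff_not_dvd.2 P.not_dvd_index).symm)
  have h3 := pow_gcd_eq_one.2 ⟨h1, h2⟩
  rwa [hcop, pow_one] at h3

theorem Setup.central_eq {P : Sylow 2 G} {c : G} (S : Setup (P : Subgroup G) c)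
    (hperf : commutator G = ⊤) {z : G} (hzP : z ∈ (P : Subgroup G)) (hz : z ∈ center G) :
    z = 1 ∨ z = c := by
  have hle : commutator ↥(P : Subgroup G) ≤ (zpowers c).subgroupOf (P : Subgroup G) := by
    rw [_root_.commutator_def, commutator_le]
    intro a _ b _
    rw [mem_subgroupOf, commutatorElement_def]
    show (a : G) * b * (a : G)⁻¹ * (b : G)⁻¹ ∈ zpowers c
    rcases S.val a a.2 b b.2 with e | e <;> rw [e]
    · rw [mul_inv_cancel]; exact one_mem _
    · rw [mul_inv_cancel_right]; exact mem_zpowers c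
  have h : z ∈ zpowers c := hle (central_mem_derived hperf P hzP hz)
  obtain ⟨i, rfl⟩ := h
  rcases Int.even_or_odd i with ⟨j, rfl⟩ | ⟨j, rfl⟩
  · left
    show c ^ (j + j) = 1
    rw [← two_mul, zpow_mul, zpow_two, S.sq, one_zpow]
  · right
    show c ^ (2 * j + 1) = c
    rw [zpow_add, zpow_mul, zpow_two, S.sq, one_zpow, one_mul, zpow_one]

/-- Elements of `N(P)` fix `c`. -/
theorem Setup.conj_c {P : Subgroup G} {c : G} (S : Setup P c) {n : G}
    (hn : n ∈ normalizer (P : Set G)) : n * c * n⁻¹ = c := by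
  obtain ⟨x, hx, hxZ, -⟩ := S.idx.exists_out P.one_mem
  obtain ⟨y, hy, hyR⟩ := S.idx.exists_not_mem_cs hx hxZ
  have e := S.moves x hx y hy hxZ hyR
  have hx' := conj_mem_of_normalizer hn hx
  have hy' := conj_mem_of_normalizer hn hy
  have e' : n * x * n⁻¹ * (n * y * n⁻¹) * (n * x * n⁻¹)⁻¹ = n * c * n⁻¹ * (n * y * n⁻¹) := by
    rw [show n * x * n⁻¹ * (n * y * n⁻¹) * (n * x * n⁻¹)⁻¹ = n * (x * y * x⁻¹) * n⁻¹ by group, e,
      conj_mul]
  rcases S.val _ hx' _ hy' with f | f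
  · rw [f] at e'
    exact absurd (conj_eq_one_iff.1 (mul_eq_right.1 e'.symm)) S.ne
  · rw [f] at e'
    exact (mul_right_cancel e').symm

/-- Conjugation by `N(P)` permutes the subgroups `cs P x`. -/
theorem conj_mem_cs_conj {P : Subgroup G} {n x g : G} (hn : n ∈ normalizer (P : Set G))
    (hg : g ∈ cs P x) : n * g * n⁻¹ ∈ cs P (n * x * n⁻¹) := by
  refine mem_cs.2 ⟨conj_mem_of_normalizer hn (cs_le P x hg), ?_⟩
  show n * g * n⁻¹ * (n * x * n⁻¹) = n * x * n⁻¹ * (n * g * n⁻¹)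
  rw [conj_mul, conj_mul, (mem_cs.1 hg).2.eq]

theorem normalizer_cs_of_eq {P : Subgroup G} {n x : G} (hn : n ∈ normalizer (P : Set G))
    (h : cs P (n * x * n⁻¹) = cs P x) : n ∈ normalizer (cs P x : Set G) :=
  mem_normalizer_iff.2 fun g => ⟨fun hg => h ▸ conj_mem_cs_conj hn hg, fun hg => by
    rw [← h] at hg
    have := conj_mem_cs_conj (inv_mem hn) hg
    rwa [show n⁻¹ * (n * g * n⁻¹) * n⁻¹⁻¹ = g by group,
      show n⁻¹ * (n * x * n⁻¹) * n⁻¹⁻¹ = x by group] at this⟩

theorem mem_cs_conj_iff {P : Subgroup G} {n p u : G} (hn : n ∈ normalizer (P : Set G)) :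
    n * u * n⁻¹ ∈ cs P (n * p * n⁻¹) ↔ u ∈ cs P p := by
  refine ⟨fun h => ?_, conj_mem_cs_conj hn⟩
  have := conj_mem_cs_conj (inv_mem hn) h
  rwa [show n⁻¹ * (n * u * n⁻¹) * n⁻¹⁻¹ = u by group,
    show n⁻¹ * (n * p * n⁻¹) * n⁻¹⁻¹ = p by group] at this

theorem cs_conj_congr {P : Subgroup G} {n p q : G} (hn : n ∈ normalizer (P : Set G)) :
    cs P (n * p * n⁻¹) = cs P (n * q * n⁻¹) ↔ cs P p = cs P q := by
  constructor
  · intro e
    ext u
    rw [← mem_cs_conj_iff hn, e, mem_cs_conj_iff hn]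
  · intro e
    ext u
    rw [show u = n * (n⁻¹ * u * n) * n⁻¹ by group, mem_cs_conj_iff hn, e, mem_cs_conj_iff hn]

theorem Setup.fused_conj {P : Subgroup G} {c : G} (S : Setup P c) {n x : G}
    (hn : n ∈ normalizer (P : Set G)) (h : Fused c (cs P x)) : Fused c (cs P (n * x * n⁻¹)) := by
  obtain ⟨k, hk, hne⟩ := h
  refine ⟨n * k * n⁻¹, mem_normalizer_iff.2 fun g => ?_, fun e => hne ?_⟩
  · have hiff : ∀ u, u ∈ cs P (n * x * n⁻¹) ↔ n⁻¹ * u * n ∈ cs P x := fun u => by
      refine ⟨fun hu => ?_, fun hu => ?_⟩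
      · have := conj_mem_cs_conj (inv_mem hn) hu
        rwa [inv_inv, show n⁻¹ * (n * x * n⁻¹) * n = x by group] at this
      · have := conj_mem_cs_conj hn hu
        rwa [show n * (n⁻¹ * u * n) * n⁻¹ = u by group] at this
    rw [hiff, hiff, mem_normalizer_iff.1 hk]
    rw [show n⁻¹ * (n * k * n⁻¹ * g * (n * k * n⁻¹)⁻¹) * n = k * (n⁻¹ * g * n) * k⁻¹ by group]
  · have hc := S.conj_c hn
    have hc' : n⁻¹ * c * n = c := by
      nth_rewrite 1 [← hc]; group
    calc k * c * k⁻¹ = k * (n⁻¹ * c * n) * k⁻¹ := by rw [hc']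
      _ = n⁻¹ * (n * k * n⁻¹ * c * (n * k * n⁻¹)⁻¹) * n := by group
      _ = c := by rw [e, hc']

end Cfsg.Agent.H4.CentIndexFour
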