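import Cfsg.Agent.H4.CentIndexFour.Basic
import Cfsg.Agent.Coprime.Basic

/-!
# Centre of index four: the automizer of an abelian subgroup of index two

`R = C_P(x)` is abelian of index two in the Sylow subgroup `P`; an element `y ∈ P - R` induces a
transvection with centre `c`, and the Sylow subgroups of the automizer have order two.  Either all
elements of `N(R)` act as elements of `N(P)`, or the conjugates of `c` are the three involutions of a
four group `{1, c, c', c c'}` complemented in `R` by the part fixed by all transvections.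
-/

set_option autoImplicit false
set_option linter.unusedSectionVars false
set_option linter.style.haveILetI false

namespace Cfsg.Agent.H4.CentIndexFour

open Subgroup

variable {G : Type*} [Group G]

theorem conj_mem_of_normalizer {A : Subgroup G} {k r : G} (hk : k ∈ normalizer (A : Set G))
    (hr : r ∈ A) : k * r * k⁻¹ ∈ A :=
  (mem_normalizer_iff.1 hk r).1 hr

/-- `u` induces on `R` a transvection with centre `a`. -/
structure IsTrans (R : Subgroup G) (u a : G) : Prop where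
  mem : u ∈ normalizer (R : Set G)
  centre : a ∈ R
  sq : a * a = 1
  ne : a ≠ 1
  fix : u * a * u⁻¹ = a
  val : ∀ r ∈ R, u * r * u⁻¹ = r ∨ u * r * u⁻¹ = a * r
  moves : ∃ r ∈ R, u * r * u⁻¹ = a * r

/-- Two elements act in the same way on `R`. -/
def SameAct (R : Subgroup G) (u v : G) : Prop :=
  ∀ r ∈ R, u * r * u⁻¹ = v * r * v⁻¹

theorem SameAct.symm {R : Subgroup G} {u v : G} (h : SameAct R u v) : SameAct R v u :=
  fun r hr => (h r hr).symm

variable {R : Subgroup G} {u v a b : G}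

theorem IsTrans.two (hu : IsTrans R u a) {r : G} (hr : r ∈ R) : u * (u * r * u⁻¹) * u⁻¹ = r := by
  rcases hu.val r hr with e | e
  · rw [e, e]
  · rw [e, ← conj_mul, hu.fix, e, ← mul_assoc, hu.sq, one_mul]

theorem IsTrans.centre_eq (hu : IsTrans R u a) (hv : IsTrans R v b) (h : SameAct R u v) : a = b := by
  obtain ⟨r, hr, e⟩ := hu.moves
  rcases hv.val r hr with e' | e'
  · rw [← h r hr, e] at e'
    exact absurd (mul_eq_right.1 e') hu.ne
  · rw [← h r hr, e] at e'
    exact mul_right_cancel e'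

theorem IsTrans.conj (hu : IsTrans R u a) {k : G} (hk : k ∈ normalizer (R : Set G)) :
    IsTrans R (k * u * k⁻¹) (k * a * k⁻¹) := by
  have hval : ∀ r : G, k * u * k⁻¹ * r * (k * u * k⁻¹)⁻¹ =
      k * (u * (k⁻¹ * r * k) * u⁻¹) * k⁻¹ := fun r => by group
  have hki : ∀ {r : G}, r ∈ R → k⁻¹ * r * k ∈ R := fun {r} hr => by
    simpa using conj_mem_of_normalizer (inv_mem hk) hr
  refine ⟨mul_mem (mul_mem hk hu.mem) (inv_mem hk), conj_mem_of_normalizer hk hu.centre, ?_, ?_, ?_,
    fun r hr => ?_, ?_⟩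
  · rw [conj_mul, hu.sq, mul_one, mul_inv_cancel]
  · exact fun e => hu.ne (conj_eq_one_iff.1 e)
  · rw [hval, show k⁻¹ * (k * a * k⁻¹) * k = a by group, hu.fix]
  · rcases hu.val _ (hki hr) with e | e
    · left; rw [hval, e]; group
    · right; rw [hval, e]; group
  · obtain ⟨r, hr, e⟩ := hu.moves
    refine ⟨k * r * k⁻¹, conj_mem_of_normalizer hk hr, ?_⟩
    rw [hval, show k⁻¹ * (k * r * k⁻¹) * k = r by group, e]
    group

/-- In an automizer whose Sylow `2`-subgroups have order two a transvection fixing the centre of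
another one coincides with it. -/
theorem IsTrans.same_of_fix (hR : IsMulCommutative ↥R) (hu : IsTrans R u a) (hv : IsTrans R v b)
    (hsyl : ∀ g ∈ normalizer (R : Set G), (∀ r ∈ R, g ^ 4 * r * (g ^ 4)⁻¹ = r) →
      ∀ r ∈ R, g ^ 2 * r * (g ^ 2)⁻¹ = r)
    (hcomm : ∀ p q : G, p ∈ normalizer (R : Set G) → q ∈ normalizer (R : Set G) →
      (∀ r ∈ R, p * (p * r * p⁻¹) * p⁻¹ = r) → (∀ r ∈ R, q * (q * r * q⁻¹) * q⁻¹ = r) →
      SameAct R (p * q) (q * p) → (∃ r ∈ R, p * r * p⁻¹ ≠ r) → (∃ r ∈ R, q * r * q⁻¹ ≠ r) →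
      SameAct R p q)
    (hfix : u * b * u⁻¹ = b) : SameAct R u v := by
  have hc : ∀ {p q : G}, p ∈ R → q ∈ R → p * q = q * p := fun {p q} hp hq =>
    congrArg Subtype.val (hR.1.comm ⟨p, hp⟩ ⟨q, hq⟩)
  -- `g = v u` fixes `b`, moves `a` by at most `b` and satisfies `g ^ 4 = 1` on `R`
  set g := v * u with hg
  have hga : ∀ r : G, g * r * g⁻¹ = v * (u * r * u⁻¹) * v⁻¹ := fun r => by rw [hg]; group
  have hgb : g * b * g⁻¹ = b := by rw [hga, hfix, hv.fix]
  have hgg : ∀ r ∈ R, g * r * g⁻¹ = r ∨ g * r * g⁻¹ = b * r ∨ g * r * g⁻¹ = a * r ∨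
      g * r * g⁻¹ = b * (a * r) := by
    intro r hr
    rw [hga]
    rcases hu.val r hr with e | e <;> rw [e]
    · rcases hv.val r hr with e' | e' <;> rw [e'] <;> simp
    · have har := mul_mem hu.centre hr
      rcases hv.val _ har with e' | e' <;> rw [e'] <;> simp
  have hgaa : g * a * g⁻¹ = a ∨ g * a * g⁻¹ = b * a := by
    rw [hga, hu.fix]; exact hv.val a hu.centre
  have hg2 : ∀ r ∈ R, g * (g * r * g⁻¹) * g⁻¹ = r ∨ g * (g * r * g⁻¹) * g⁻¹ = b * r := by
    intro r hr
    have hga2 : ∀ s : G, g * (a * s) * g⁻¹ = (g * a * g⁻¹) * (g * s * g⁻¹) := fun s => by group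
    have hgb2 : ∀ s : G, g * (b * s) * g⁻¹ = b * (g * s * g⁻¹) := fun s => by
      rw [← conj_mul, hgb]
    have hbb : ∀ s : G, b * (b * s) = s := fun s => by rw [← mul_assoc, hv.sq, one_mul]
    have haa : ∀ s : G, a * (a * s) = s := fun s => by rw [← mul_assoc, hu.sq, one_mul]
    have hab : ∀ s : G, a * (b * s) = b * (a * s) := fun s => by
      rw [← mul_assoc, hc hu.centre hv.centre, mul_assoc]
    rcases hgg r hr with e | e | e | e
    · left; rw [e, e]
    · left; rw [e, hgb2, e, hbb]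
    · rw [e, hga2, e]
      rcases hgaa with f | f <;> rw [f]
      · left; rw [haa]
      · right; rw [mul_assoc, haa]
    · rw [e, hgb2, hga2, e]
      rcases hgaa with f | f <;> rw [f]
      · left; rw [hab, haa, hbb]
      · right; rw [mul_assoc b a, hab, haa, hbb]
  have h4 : ∀ r ∈ R, g ^ 4 * r * (g ^ 4)⁻¹ = r := by
    intro r hr
    have e4 : g ^ 4 * r * (g ^ 4)⁻¹ = g * (g * (g * (g * r * g⁻¹) * g⁻¹) * g⁻¹) * g⁻¹ := by
      simp only [pow_succ, pow_zero, one_mul, mul_inv_rev, mul_assoc]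
    rw [e4]
    rcases hg2 r hr with e | e
    · rw [e, e]
    · have hgb2 : ∀ s : G, g * (b * s) * g⁻¹ = b * (g * s * g⁻¹) := fun s => by
        rw [← conj_mul, hgb]
      rw [e, hgb2, hgb2, e, ← mul_assoc, hv.sq, one_mul]
  have hgN : g ∈ normalizer (R : Set G) := mul_mem hv.mem hu.mem
  have h2 := hsyl g hgN h4
  refine (hcomm u v hu.mem hv.mem (fun r hr => hu.two hr) (fun r hr => hv.two hr) ?_ ?_ ?_)
  · intro r hr
    -- apply the inverse: `g ^ 2 = 1` on `R`
    have hmem : u * (v * r * v⁻¹) * u⁻¹ ∈ R :=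
      conj_mem_of_normalizer hu.mem (conj_mem_of_normalizer hv.mem hr)
    have e := h2 (u * (v * r * v⁻¹) * u⁻¹) hmem
    have e' : g ^ 2 * (u * (v * r * v⁻¹) * u⁻¹) * (g ^ 2)⁻¹ =
        v * (u * (v * (u * (u * (v * r * v⁻¹) * u⁻¹) * u⁻¹) * v⁻¹) * u⁻¹) * v⁻¹ := by
      rw [hg, pow_two]; group
    rw [e', hu.two (conj_mem_of_normalizer hv.mem hr), hv.two hr] at e
    rw [show u * v * r * (u * v)⁻¹ = u * (v * r * v⁻¹) * u⁻¹ by group,
      show v * u * r * (v * u)⁻¹ = v * (u * r * u⁻¹) * v⁻¹ by group, ← e]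
  · obtain ⟨r, hr, e⟩ := hu.moves
    exact ⟨r, hr, fun e' => hu.ne (mul_eq_right.1 (e.symm.trans e'))⟩
  · obtain ⟨r, hr, e⟩ := hv.moves
    exact ⟨r, hr, fun e' => hv.ne (mul_eq_right.1 (e.symm.trans e'))⟩

variable [Finite G] {P : Sylow 2 G}

/-- A `2`-subgroup of the automizer has at most two elements. -/
theorem card_two_sub_automizer (hh : Idx4 (P : Subgroup G)) {x : G} (hx : x ∈ (P : Subgroup G))
    (hxZ : x ∉ ZP (P : Subgroup G)) (hle : (P : Subgroup G) ≤ normalizer (cs (P : Subgroup G) x : Set G))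
    {y : G} (hy : y ∈ (P : Subgroup G)) (hyR : y ∉ cs (P : Subgroup G) x)
    (Y : Subgroup ↥(normalizerMonoidHom (cs (P : Subgroup G) x)).range) (hY : IsPGroup 2 ↥Y) :
    Nat.card ↥Y ≤ 2 := by
  classical
  haveI : Fact (Nat.Prime 2) := ⟨Nat.prime_two⟩
  set R := cs (P : Subgroup G) x with hR
  set ρ := (normalizerMonoidHom R).rangeRestrict with hρ
  set Q := (P.subtype hle).mapSurjective (f := ρ) (MonoidHom.rangeRestrict_surjective _) with hQ
  obtain ⟨Q', hQ'⟩ := hY.exists_le_sylow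
  have hsub : ∀ q ∈ (Q : Subgroup ↥(normalizerMonoidHom R).range),
      q = 1 ∨ q = ρ ⟨y, hle hy⟩ := by
    intro q hq
    rw [hQ, Sylow.coe_mapSurjective] at hq
    obtain ⟨⟨p, hpN⟩, hp, rfl⟩ := hq
    have hpP : p ∈ (P : Subgroup G) := hp
    have hker : ∀ {g : G} (hg : g ∈ normalizer (R : Set G)), g ∈ R → ρ ⟨g, hg⟩ = 1 := by
      intro g hg hgR
      refine Subtype.ext (MulEquiv.ext fun r => Subtype.ext ?_)
      show g * (r : G) * g⁻¹ = (r : G)
      rw [(hh.commute_cs hx hxZ hgR r.2).eq, mul_inv_cancel_right]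
    by_cases hpR : p ∈ R
    · exact Or.inl (hker hpN hpR)
    · have hyZ : y ∉ ZP (P : Subgroup G) := fun e => hyR (hh.ZP_le_cs hx e)
      have hxy : x⁻¹ * y ∉ ZP (P : Subgroup G) := fun e =>
        hyR ((hh.mem_cs_iff hx hxZ).2 (Or.inr e))
      have hR' : y⁻¹ * p ∈ R := by
        rcases hh.cover hx hy hxZ hyZ hxy hpP with e | e | e | e
        · exact absurd (hh.ZP_le_cs hx e) hpR
        · exact absurd ((hh.mem_cs_iff hx hxZ).2 (Or.inr e)) hpR
        · exact hh.ZP_le_cs hx e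
        · have h1 : y⁻¹ * x * y ∈ R := by
            have := conj_mem_of_normalizer (hle (inv_mem hy))
              (mem_cs.2 ⟨hx, Commute.refl x⟩ : x ∈ R)
            rwa [inv_inv] at this
          have h2 := mul_mem h1 (hh.ZP_le_cs hx e)
          rwa [show y⁻¹ * x * y * ((x * y)⁻¹ * p) = y⁻¹ * p by group] at h2
      right
      have e : (⟨p, hpN⟩ : ↥(normalizer (R : Set G))) =
          ⟨y, hle hy⟩ * ⟨y⁻¹ * p, mul_mem (hle (inv_mem hy)) hpN⟩ := Subtype.ext (by simp)
      rw [e, map_mul, hker _ hR', mul_one]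
  have hQcard : Nat.card ↥(Q : Subgroup ↥(normalizerMonoidHom R).range) ≤ 2 := by
    rw [← SetLike.coe_sort_coe, Nat.card_coe_set_eq]
    refine le_trans (Set.ncard_le_ncard (t := {1, ρ ⟨y, hle hy⟩}) (fun q hq => hsub q hq)
      (Set.toFinite _)) ((Set.ncard_insert_le _ _).trans (by rw [Set.ncard_singleton]))
  exact ((Subgroup.card_le_of_le hQ').trans_eq
    (Q'.card_eq_multiplicity.trans Q.card_eq_multiplicity.symm)).trans hQcard

end Cfsg.Agent.H4.CentIndexFour
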